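import Cfsg.Prelude.Def_HallClasses
import Cfsg.Agent.Hall.Basic
import Cfsg.Agent.Coprime.SchurZassenhaus
import Cfsg.Agent.OddOrder.BG15.Nilp
import Cfsg.Agent.S0205

/-!
# Groups with `2`-closed `π`-subgroups and `π`-homogeneity: basic notions and the reduction steps

`Hyp π G` is the hypothesis of S3258 in element form; `Closed π G` says that the `π'`-elements
form a subgroup.
-/

set_option autoImplicit false
set_option linter.style.haveILetI false

namespace Cfsg.Agent.H63.TwoClosed

open Subgroup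
open Cfsg.Agent.Hall

universe u

variable {G Q : Type*} [Group G] [Group Q] {π : Set ℕ}

/-- A `π'`-element. -/
def PPrime (π : Set ℕ) (x : G) : Prop := IsPiNumber πᶜ (orderOf x)

/-- Every `π`-subgroup has a normal Sylow `2`-subgroup, `2 ∈ π`, and `π'`-elements normalising a
`π`-subgroup centralise it. -/
structure Hyp (π : Set ℕ) (G : Type*) [Group G] : Prop where
  two : 2 ∈ π
  closed2 : ∀ H : Subgroup G, IsPiNumber π (Nat.card H) → ∀ P : Sylow 2 H,
    (P : Subgroup H).Normal
  homog : ∀ H : Subgroup G, IsPiNumber π (Nat.card H) →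
    ∀ x ∈ normalizer (H : Set G), PPrime π x → x ∈ centralizer (H : Set G)

/-- The `π'`-elements form a subgroup. -/
def Closed (π : Set ℕ) (G : Type*) [Group G] : Prop :=
  ∃ K : Subgroup G, ∀ x : G, x ∈ K ↔ PPrime π x

theorem pprime_one : PPrime π (1 : G) := by
  unfold PPrime; rw [orderOf_one]; exact IsPiNumber.one

theorem PPrime.map (f : G →* Q) {x : G} (h : PPrime π x) : PPrime π (f x) :=
  IsPiNumber.of_dvd h (orderOf_map_dvd f x)

theorem pprime_coe {M : Subgroup G} {x : M} : PPrime π (x : G) ↔ PPrime π x := by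
  unfold PPrime; rw [Subgroup.orderOf_coe]

theorem PPrime.of_mem_zpowers [Finite G] {x y : G} (hx : PPrime π x) (hy : y ∈ zpowers x) :
    PPrime π y :=
  IsPiNumber.of_dvd hx (orderOf_dvd_of_mem_zpowers hy)

theorem PPrime.conj {x : G} (h : PPrime π x) (g : G) : PPrime π (g * x * g⁻¹) := by
  unfold PPrime
  rw [← MulAut.conj_apply, MulEquiv.orderOf_eq]
  exact h

theorem odd_of_compl (h2 : 2 ∈ π) {n : ℕ} (h : IsPiNumber πᶜ n) : Odd n := by
  rw [Nat.odd_iff]
  by_contra hne
  exact h 2 Nat.prime_two (Nat.dvd_of_mod_eq_zero (by omega)) h2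

theorem two_pow_pi (h2 : 2 ∈ π) (k : ℕ) : IsPiNumber π (2 ^ k) :=
  (IsPiNumber.prime Nat.prime_two h2).pow k

theorem isPi_of_pGroup [Finite G] (h2 : 2 ∈ π) {H : Subgroup G} (hH : IsPGroup 2 H) :
    IsPiNumber π (Nat.card H) := by
  haveI : Fact (Nat.Prime 2) := ⟨Nat.prime_two⟩
  obtain ⟨k, hk⟩ := IsPGroup.iff_card.mp hH
  exact hk ▸ two_pow_pi h2 k

theorem pprime_of_card {K : Subgroup G} (h : IsPiNumber πᶜ (Nat.card K)) {x : G} (hx : x ∈ K) :
    PPrime π x :=
  IsPiNumber.of_dvd h (orderOf_dvd_natCard K hx)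

/-- A group all of whose elements are `σ`-elements has `σ`-order. -/
theorem isPi_card_of_forall [Finite G] {σ : Set ℕ} {K : Subgroup G}
    (h : ∀ x ∈ K, IsPiNumber σ (orderOf x)) : IsPiNumber σ (Nat.card K) := by
  intro p hp hd
  haveI : Fact p.Prime := ⟨hp⟩
  obtain ⟨x, hx⟩ := exists_prime_orderOf_dvd_card' p hd
  exact h x x.2 p hp (by rw [Subgroup.orderOf_coe, hx])

theorem mem_of_pow_mem {H : Subgroup G} {x : G} {n : ℕ} (hc : n.Coprime (orderOf x))
    (h : x ^ n ∈ H) : x ∈ H := by
  obtain ⟨m, hm⟩ := exists_pow_eq_self_of_coprime hc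
  exact hm ▸ H.pow_mem h m

/-- The `π`-part and the `π'`-part of an element. -/
theorem exists_parts [Finite G] (π : Set ℕ) (x : G) :
    ∃ y z : G, y * z = x ∧ y ∈ zpowers x ∧ z ∈ zpowers x ∧
      IsPiNumber π (orderOf y) ∧ PPrime π z := by
  obtain ⟨y, z, h1, h2, h3, h4, h5⟩ := OddOrder.BG15.exists_pi_parts π x
  exact ⟨y, z, h1, h2, h3, h4, h5⟩

theorem exists_pprime_lift [Finite G] (f : G →* Q) {g : G} (h : PPrime π (f g)) :
    ∃ g' ∈ zpowers g, PPrime π g' ∧ f g' = f g := by
  obtain ⟨y, z, hyz, hy, hz, hy', hz'⟩ := exists_parts π g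
  refine ⟨z, hz, hz', ?_⟩
  have h1 : f y ∈ zpowers (f g) := by
    obtain ⟨k, rfl⟩ := mem_zpowers_iff.mp hy
    rw [map_zpow]
    exact zpow_mem_zpowers _ _
  haveI : Finite (zpowers (f g)) := by
    rw [← MonoidHom.map_zpowers]
    exact Finite.of_surjective _ (f.subgroupMap_surjective (zpowers g))
  have h2 : orderOf (f y) = 1 := IsPiNumber.eq_one (hy'.of_dvd (orderOf_map_dvd f y))
    (IsPiNumber.of_dvd h (by
      have := orderOf_dvd_natCard (zpowers (f g)) h1
      rwa [Nat.card_zpowers] at this))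
  rw [← hyz, map_mul, orderOf_eq_one_iff.mp h2, one_mul]

/-! ### Inheritance -/

theorem Hyp.subgroup [Finite G] (h : Hyp π G) (M : Subgroup G) : Hyp π M where
  two := h.two
  closed2 H hH P := by
    set e := H.equivMapOfInjective M.subtype M.subtype_injective
    have hc : IsPiNumber π (Nat.card (H.map M.subtype)) := by
      rwa [← Nat.card_congr e.toEquiv]
    haveI : Fact (Nat.Prime 2) := ⟨Nat.prime_two⟩
    have hn := h.closed2 _ hc (P.mapSurjective (f := e.toMonoidHom) e.surjective)
    have h' := hn.comap e.toMonoidHom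
    have e1 : ((P.mapSurjective (f := e.toMonoidHom) e.surjective : Sylow 2 _) :
        Subgroup _).comap e.toMonoidHom = (P : Subgroup H) :=
      Subgroup.comap_map_eq_self_of_injective (f := e.toMonoidHom) e.injective (P : Subgroup H)
    rwa [e1] at h'
  homog H hH x hx hp := by
    have hc : IsPiNumber π (Nat.card (H.map M.subtype)) := by
      rwa [Subgroup.card_map_of_injective M.subtype_injective]
    have hn : (x : G) ∈ normalizer ((H.map M.subtype : Subgroup G) : Set G) :=
      le_normalizer_map M.subtype ⟨x, hx, rfl⟩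
    have := h.homog _ hc (x : G) hn (pprime_coe.mpr hp)
    rw [mem_centralizer_iff] at this ⊢
    intro y hy
    exact Subtype.ext (this y ⟨y, hy, rfl⟩)

/-- Transfer to an image in which `π`-subgroups lift together with their normalisers. -/
theorem Hyp.of_lift [Finite G] (h : Hyp π G) (f : G →* Q)
    (hlift : ∀ H' : Subgroup Q, IsPiNumber π (Nat.card H') → ∃ H : Subgroup G,
      IsPiNumber π (Nat.card H) ∧ H.map f = H' ∧
        ∀ x ∈ normalizer (H' : Set Q), ∃ g ∈ normalizer (H : Set G), f g = x) :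
    Hyp π Q where
  two := h.two
  closed2 H' hH' P' := by
    obtain ⟨H, hH, rfl, -⟩ := hlift H' hH'
    haveI : Fact (Nat.Prime 2) := ⟨Nat.prime_two⟩
    obtain ⟨P⟩ : Nonempty (Sylow 2 H) := inferInstance
    have hPn := h.closed2 H hH P
    have hs : Function.Surjective (f.subgroupMap H) := f.subgroupMap_surjective H
    have hn : ((P.mapSurjective hs : Sylow 2 (H.map f)) : Subgroup (H.map f)).Normal := by
      rw [Sylow.coe_mapSurjective]
      exact hPn.map _ hs
    haveI := Finite.of_surjective _ hs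
    haveI : Finite (Sylow 2 (H.map f)) := inferInstance
    letI := Sylow.unique_of_normal (P.mapSurjective hs) hn
    rwa [Subsingleton.elim P' (P.mapSurjective hs)]
  homog H' hH' x hx hp := by
    obtain ⟨H, hH, rfl, hN⟩ := hlift H' hH'
    obtain ⟨g, hg, rfl⟩ := hN x hx
    obtain ⟨g', hg', hgp, hfg⟩ := exists_pprime_lift f hp
    have := h.homog H hH g' (zpowers_le.mpr hg hg') hgp
    rw [mem_centralizer_iff] at this ⊢
    rintro _ ⟨y, hy, rfl⟩
    rw [← hfg, ← map_mul, ← map_mul, this y hy]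

theorem mem_map_conj_iff {H : Subgroup G} {g x : G} :
    x ∈ H.map (MulAut.conj g).toMonoidHom ↔ g⁻¹ * x * g ∈ H := by
  rw [mem_map_equiv, MulAut.conj_symm_apply]

/-- The hypothesis passes to the quotient by a normal `π'`-subgroup. -/
theorem Hyp.quotient_compl [Finite G] (h : Hyp π G) (N : Subgroup G) [N.Normal]
    (hN : IsPiNumber πᶜ (Nat.card N)) : Hyp π (G ⧸ N) := by
  refine h.of_lift (QuotientGroup.mk' N) fun H' hH' => ?_
  set f := QuotientGroup.mk' N with hf
  set L := H'.comap f with hL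
  have hNL : N ≤ L := fun x hx => by
    rw [hL, mem_comap, hf, QuotientGroup.mk'_apply, (QuotientGroup.eq_one_iff x).mpr hx]
    exact H'.one_mem
  have hidx : (N.subgroupOf L).index = Nat.card H' := by
    have h1 : N.relIndex L = Nat.card (L.map f) := by
      rw [← Subgroup.relIndex_ker, hf, QuotientGroup.ker_mk']
    rw [Subgroup.map_comap_eq_self_of_surjective (QuotientGroup.mk'_surjective N)] at h1
    exact h1
  have hcop : (Nat.card (N.subgroupOf L)).Coprime (N.subgroupOf L).index := by
    rw [hidx, card_subgroupOf_of_le hNL]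
    exact (hH'.coprime hN).symm
  obtain ⟨H₀, hH₀⟩ := exists_right_complement'_of_coprime hcop
  set H := H₀.map L.subtype with hHdef
  have hcard : Nat.card H = Nat.card H' := by
    rw [hHdef, Subgroup.card_map_of_injective L.subtype_injective, ← hidx, hH₀.symm.index_eq_card]
  have hHL : H ≤ L := map_subtype_le _
  have hsup : L ≤ N ⊔ H := by
    have := congrArg (Subgroup.map L.subtype) hH₀.sup_eq_top
    rw [Subgroup.map_sup, map_subgroupOf_eq_of_le hNL, ← MonoidHom.range_eq_map,
      Subgroup.range_subtype, ← hHdef] at this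
    exact this.ge
  have hmap : H.map f = H' := by
    refine le_antisymm (map_le_iff_le_comap.mpr hHL) ?_
    intro y hy
    obtain ⟨x, rfl⟩ := QuotientGroup.mk'_surjective N y
    obtain ⟨n, hn, k, hk, rfl⟩ := mem_sup_of_normal_left.mp (hsup (show x ∈ L from hy))
    refine ⟨k, hk, ?_⟩
    rw [map_mul]
    conv_lhs => rw [← one_mul (f k)]
    congr 1
    exact ((QuotientGroup.eq_one_iff n).mpr hn).symm
  refine ⟨H, hcard ▸ hH', hmap, fun x hx => ?_⟩
  obtain ⟨g, rfl⟩ := QuotientGroup.mk'_surjective N x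
  have hle : H.map (MulAut.conj g).toMonoidHom ≤ N ⊔ H := by
    refine le_trans ?_ hsup
    intro y hy
    rw [mem_map_conj_iff] at hy
    show f y ∈ H'
    have h1 : f (g⁻¹ * y * g) ∈ H' := hHL hy
    have h2 := (mem_normalizer_iff.mp hx _).mp h1
    rwa [← map_inv f g, ← map_mul, ← map_mul,
      show g * (g⁻¹ * y * g) * g⁻¹ = y by group] at h2
  obtain ⟨n, hn, hconj⟩ := Coprime.exists_conj_of_le_sup
    (H₁ := H) (H₂ := H.map (MulAut.conj g).toMonoidHom)
    (by rw [normalizer_eq_top]; exact le_top) hle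
    (Subgroup.card_map_of_injective (MulAut.conj g).injective)
    (hcard ▸ hH'.coprime hN)
    (Or.inr (Cfsg.Agent.S0205.result (odd_of_compl h.two hN)))
  refine ⟨n⁻¹ * g, ?_, ?_⟩
  · refine mem_normalizer_iff.mpr fun y => ?_
    have key : ∀ w : G, g⁻¹ * w * g ∈ H ↔ n⁻¹ * w * n ∈ H := fun w => by
      rw [← mem_map_conj_iff, ← mem_map_conj_iff, hconj]
    have := key (g * y * g⁻¹)
    simp only [mul_assoc, inv_mul_cancel_left, inv_mul_cancel, mul_one] at this
    rw [this]
    simp only [mul_inv_rev, inv_inv, mul_assoc]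
  · rw [map_mul, map_inv]
    simp [hf, (QuotientGroup.eq_one_iff n).mpr hn]

/-- The hypothesis passes to the quotient by a central `π`-subgroup. -/
theorem Hyp.quotient_central [Finite G] (h : Hyp π G) (N : Subgroup G) [N.Normal]
    (hN : IsPiNumber π (Nat.card N)) : Hyp π (G ⧸ N) := by
  refine h.of_lift (QuotientGroup.mk' N) fun H' hH' => ?_
  set f := QuotientGroup.mk' N with hf
  have hsurj := QuotientGroup.mk'_surjective N
  refine ⟨H'.comap f, ?_, map_comap_eq_self_of_surjective hsurj H', fun x hx => ?_⟩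
  · have hNL : N ≤ H'.comap f := fun x hx => by
      rw [mem_comap, hf, QuotientGroup.mk'_apply, (QuotientGroup.eq_one_iff x).mpr hx]
      exact H'.one_mem
    have h1 := Subgroup.relIndex_mul_relIndex ⊥ N (H'.comap f) bot_le hNL
    rw [relIndex_bot_left, relIndex_bot_left] at h1
    have h2 : N.relIndex (H'.comap f) = Nat.card H' := by
      conv_rhs => rw [← map_comap_eq_self_of_surjective hsurj H']
      rw [← Subgroup.relIndex_ker, hf, QuotientGroup.ker_mk']
    rw [← h1, h2]
    exact hN.mul hH'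
  · obtain ⟨g, rfl⟩ := hsurj x
    refine ⟨g, ?_, rfl⟩
    rw [← comap_normalizer_eq_of_surjective H' hsurj]
    exact hx

end Cfsg.Agent.H63.TwoClosed
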