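import Cfsg.Agent.H63.TwoClosed.Local
import Cfsg.Agent.H70.Balanced.Criterion
import Cfsg.Agent.Coprime.Generation
import Cfsg.Agent.Bridge.Final
import Cfsg.Agent.S0516

/-!
# No strongly embedded subgroup in a minimal counterexample
-/

set_option autoImplicit false
set_option linter.style.haveILetI false
set_option linter.unusedSectionVars false

namespace Cfsg.Agent.H63.TwoClosed

open Subgroup
open Cfsg.Agent.Hall

universe u

variable {G : Type u} [Group G] [Finite G] {π : Set ℕ}

/-- An involution of the centre of `S`. -/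
structure Cen (S : Sylow 2 G) (z : G) : Prop where
  mem : z ∈ (S : Subgroup G)
  ord : orderOf z = 2
  comm : ∀ s ∈ (S : Subgroup G), Commute s z

theorem Cen.ne_one {S : Sylow 2 G} {z : G} (hz : Cen S z) : z ≠ 1 := fun e => by
  have := hz.ord; rw [e, orderOf_one] at this; omega

theorem Cen.conj {S : Sylow 2 G} {z n : G} (hz : Cen S z)
    (hn : n ∈ normalizer ((S : Subgroup G) : Set G)) : Cen S (n * z * n⁻¹) where
  mem := (mem_normalizer_iff.mp hn z).mp hz.mem
  ord := by rw [← MulAut.conj_apply, MulEquiv.orderOf_eq, hz.ord]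
  comm s hs := by
    have h1 : n⁻¹ * s * n ∈ (S : Subgroup G) := (mem_normalizer_iff''.mp hn s).mp hs
    have h2 := (hz.comm _ h1).eq
    show s * (n * z * n⁻¹) = n * z * n⁻¹ * s
    calc s * (n * z * n⁻¹) = n * (n⁻¹ * s * n * z) * n⁻¹ := by group
      _ = n * (z * (n⁻¹ * s * n)) * n⁻¹ := by rw [h2]
      _ = _ := by group

theorem sylow_ne_bot (h : Setting π G) (S : Sylow 2 G) : (S : Subgroup G) ≠ ⊥ :=
  haveI : Fact (Nat.Prime 2) := ⟨Nat.prime_two⟩
  S.ne_bot_of_dvd_card (even_iff_two_dvd.mp (even_card h))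

/-- The centre of `S` has at least two involutions. -/
theorem exists_two_cen (h : Setting π G) (S : Sylow 2 G) :
    ∃ z1 z2, Cen S z1 ∧ Cen S z2 ∧ z1 ≠ z2 := by
  haveI : Fact (Nat.Prime 2) := ⟨Nat.prime_two⟩
  obtain ⟨z, hzS, hzo, hzc⟩ := Components.exists_central_orderOf S.isPGroup' (sylow_ne_bot h S)
  have hz : Cen S z := ⟨hzS, hzo, fun s hs => mem_centralizer_singleton_iff.mp (hzc hs)⟩
  by_contra hone
  push Not at hone
  have hw : ∀ w, Cen S w → w = z := fun w hw => hone w z hw hz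
  haveI := h.simple
  refine S0516.not_weakly_closed h.noncomm S z hzo hzS fun g hg => ?_
  obtain ⟨n, hn, hnx⟩ := fusion h S (zpowers z) (zpowers_le.mpr hzS)
    (zpowers_ne_bot.mpr hz.ne_one) g (fun x hx => by
      obtain ⟨k, rfl⟩ := mem_zpowers_iff.mp hx
      rw [← conj_zpow]; exact zpow_mem hg k)
  rw [hnx z (mem_zpowers z), hw _ (hz.conj hn)]

/-- `C(z) = K(C(z)) (C(z) ∩ N(S))` for a central involution `z` of `S`. -/
theorem cen_decomp (h : Setting π G) {S : Sylow 2 G} {z : G} (hz : Cen S z) {x : G}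
    (hx : x ∈ centralizer ({z} : Set G)) :
    ∃ k ∈ kSub π (centralizer ({z} : Set G)),
      k⁻¹ * x ∈ normalizer ((S : Subgroup G) : Set G) := by
  have hSC : (S : Subgroup G) ≤ centralizer ({z} : Set G) := fun s hs =>
    mem_centralizer_singleton_iff.mpr (hz.comm s hs)
  obtain ⟨k, hk, hkm⟩ := decomp h (centralizer_ne_top h hz.ne_one) (S.subtype hSC) ⟨x, hx⟩
  refine ⟨(k : G), hk, mem_normalizer_fintype fun y hy => ?_⟩
  have := (mem_normalizer_iff.mp hkm ⟨y, hSC hy⟩).mp
    (by rw [Sylow.coe_subtype]; exact mem_subgroupOf.mpr hy)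
  rw [Sylow.coe_subtype, mem_subgroupOf] at this
  exact this

theorem mem_of_conj_cen (h : Setting π G) {S : Sylow 2 G} {M : Subgroup G}
    (hN : normalizer ((S : Subgroup G) : Set G) ≤ M)
    (hC : ∀ z, Cen S z → centralizer ({z} : Set G) ≤ M) {z g : G} (hz : Cen S z)
    (hg : g * z * g⁻¹ ∈ M) : g ∈ M := by
  haveI : Fact (Nat.Prime 2) := ⟨Nat.prime_two⟩
  have hSM : (S : Subgroup G) ≤ M := le_normalizer.trans hN
  have hp : IsPGroup 2 (zpowers (g * z * g⁻¹)) :=
    IsPGroup.of_card (n := 1) (by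
      rw [Nat.card_zpowers, ← MulAut.conj_apply, MulEquiv.orderOf_eq, hz.ord, pow_one])
  obtain ⟨m, hm, hmS⟩ := H39.exists_conj_mem_le_sylow hp (zpowers_le.mpr hg) S hSM
  have hmg : ∀ x ∈ zpowers z, (m * g) * x * (m * g)⁻¹ ∈ (S : Subgroup G) := by
    intro x hx
    obtain ⟨k, rfl⟩ := mem_zpowers_iff.mp hx
    rw [← conj_zpow]
    refine zpow_mem ?_ k
    simpa [mul_assoc] using hmS _ (mem_zpowers _)
  obtain ⟨n, hn, hnx⟩ := fusion h S (zpowers z) (zpowers_le.mpr hz.mem)
    (zpowers_ne_bot.mpr hz.ne_one) (m * g) hmg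
  have hc : n⁻¹ * (m * g) ∈ centralizer ({z} : Set G) := by
    rw [mem_centralizer_singleton_iff]
    have e := hnx z (mem_zpowers z)
    calc n⁻¹ * (m * g) * z = n⁻¹ * ((m * g) * z * (m * g)⁻¹) * (m * g) := by group
      _ = n⁻¹ * (n * z * n⁻¹) * (m * g) := by rw [e]
      _ = _ := by group
  have := mul_mem (mul_mem (inv_mem hm) (hN hn)) (hC z hz hc)
  simpa [mul_assoc] using this

/-- A `2`-subgroup containing a central involution of `S` lies in `M`. -/
theorem two_group_le (h : Setting π G) {S : Sylow 2 G} {M : Subgroup G}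
    (hN : normalizer ((S : Subgroup G) : Set G) ≤ M)
    (hC : ∀ z, Cen S z → centralizer ({z} : Set G) ≤ M) {z : G} (hz : Cen S z)
    {R : Subgroup G} (hR : IsPGroup 2 R) (hzR : z ∈ R) : R ≤ M := by
  haveI : Fact (Nat.Prime 2) := ⟨Nat.prime_two⟩
  by_contra hne
  have hlt : R ⊓ M < R := lt_of_le_of_ne inf_le_left fun e => hne (inf_eq_left.mp e)
  obtain ⟨r, hrR, hrn, hrN⟩ := H39.exists_mem_normalizer_not_mem hR hlt
  have hzM : z ∈ M := hN (le_normalizer hz.mem)
  exact hrn (mem_inf.mpr ⟨hrR, mem_of_conj_cen h hN hC hz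
    (mem_inf.mp ((mem_normalizer_iff.mp hrN z).mp (mem_inf.mpr ⟨hzR, hzM⟩))).2⟩)

/-- A proper subgroup containing `N(S)` and the centralisers of the central involutions of `S`
is strongly embedded. -/
theorem isSE (h : Setting π G) {S : Sylow 2 G} {M : Subgroup G} (hM : M ≠ ⊤)
    (hN : normalizer ((S : Subgroup G) : Set G) ≤ M)
    (hC : ∀ z, Cen S z → centralizer ({z} : Set G) ≤ M) : Cfsg.IsStronglyEmbedded M := by
  haveI : Fact (Nat.Prime 2) := ⟨Nat.prime_two⟩
  refine H70.Balanced.isStronglyEmbedded_of_centralizer_le hM S (sylow_ne_bot h S) hN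
    fun u hu huo => ?_
  obtain ⟨z1, z2, h1, h2, h12⟩ := exists_two_cen h S
  have hu1 : u ≠ 1 := fun e => by rw [e, orderOf_one] at huo; omega
  have hCu := centralizer_ne_top h hu1
  have hz1C : z1 ∈ centralizer ({u} : Set G) :=
    mem_centralizer_singleton_iff.mpr (h1.comm u hu).eq.symm
  have hz2C : z2 ∈ centralizer ({u} : Set G) :=
    mem_centralizer_singleton_iff.mpr (h2.comm u hu).eq.symm
  -- the group generated by the two central involutions
  set A := closure ({z1, z2} : Set G) with hA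
  have hAc : IsMulCommutative A := by
    refine Subgroup.isMulCommutative_closure fun a ha b hb => ?_
    rcases ha with rfl | rfl <;> rcases hb with rfl | rfl
    · rfl
    · exact (h2.comm _ h1.mem).eq
    · exact (h1.comm _ h2.mem).eq
    · rfl
  have hAS : A ≤ (S : Subgroup G) :=
    (closure_le _).mpr (Set.insert_subset h1.mem (Set.singleton_subset_iff.mpr h2.mem))
  have hAcyc : ¬ IsCyclic A := by
    intro hc
    have e1 : z1 ∈ A := subset_closure (Set.mem_insert _ _)
    have e2 : z2 ∈ A := subset_closure (Set.mem_insert_of_mem _ rfl)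
    have := Fintype.ofFinite A
    haveI := hc
    classical
    have hle := IsCyclic.card_pow_eq_one_le (α := A) (n := 2) (by norm_num)
    have hsub : ({1, ⟨z1, e1⟩, ⟨z2, e2⟩} : Finset A) ⊆
        Finset.univ.filter fun a : A => a ^ 2 = 1 := by
      intro a ha
      simp only [Finset.mem_insert, Finset.mem_singleton] at ha
      refine Finset.mem_filter.mpr ⟨Finset.mem_univ a, ?_⟩
      rcases ha with rfl | rfl | rfl
      · simp
      · exact Subtype.ext (by simpa [← h1.ord] using pow_orderOf_eq_one z1)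
      · exact Subtype.ext (by simpa [← h2.ord] using pow_orderOf_eq_one z2)
    have hthree : ({1, ⟨z1, e1⟩, ⟨z2, e2⟩} : Finset A).card = 3 := by
      rw [Finset.card_eq_three]
      exact ⟨_, _, _, fun e => h1.ne_one (congrArg Subtype.val e).symm,
        fun e => h2.ne_one (congrArg Subtype.val e).symm,
        fun e => h12 (congrArg Subtype.val e), rfl⟩
    have := Finset.card_le_card hsub
    omega
  have hAC : A ≤ centralizer ({u} : Set G) :=
    (closure_le _).mpr (Set.insert_subset hz1C (Set.singleton_subset_iff.mpr hz2C))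
  -- the odd part of `C(u)`
  have hK : kSub π (centralizer ({u} : Set G)) ≤ M := by
    refine Coprime.le_of_centralizer_noncyclic_le hAcyc
      (hAC.trans (le_normalizer.trans (normalizer_le_normalizer_kSub h hCu))) ?_
      fun a ha ha1 => inf_le_right.trans ?_
    · exact IsPiNumber.coprime (isPi_of_pGroup h.hyp.two (S.2.to_le hAS)) (card_kSub h hCu)
    · refine hC a ⟨hAS ha, ?_, fun s hs => ?_⟩
      · have hsq : ∀ y ∈ A, y ^ 2 = 1 := by
          intro y hy
          induction hy using closure_induction with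
          | mem y hy =>
              rcases hy with rfl | rfl
              · rw [← h1.ord]; exact pow_orderOf_eq_one _
              · rw [← h2.ord]; exact pow_orderOf_eq_one _
          | one => simp
          | mul x y hx hy hx2 hy2 =>
              have : Commute x y := congrArg Subtype.val (hAc.is_comm.comm ⟨x, hx⟩ ⟨y, hy⟩)
              rw [this.mul_pow, hx2, hy2, one_mul]
          | inv x _ hx2 => rw [inv_pow, hx2, inv_one]
        exact orderOf_eq_prime (hsq a ha) ha1
      · have : A ≤ centralizer ({s} : Set G) :=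
          (closure_le _).mpr (Set.insert_subset
            (mem_centralizer_singleton_iff.mpr (h1.comm s hs).eq.symm)
            (Set.singleton_subset_iff.mpr
              (mem_centralizer_singleton_iff.mpr (h2.comm s hs).eq.symm)))
        exact (mem_centralizer_singleton_iff.mp (this ha)).symm
  -- the rest of `C(u)`
  intro c hc
  have hp : IsPGroup 2 ((zpowers z1).subgroupOf (centralizer ({u} : Set G))) := by
    refine IsPGroup.of_card (n := 1) ?_
    rw [card_subgroupOf_of_le (zpowers_le.mpr hz1C), Nat.card_zpowers, h1.ord, pow_one]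
  obtain ⟨R, hR⟩ := hp.exists_le_sylow
  obtain ⟨k, hk, hkc⟩ := decomp h hCu R ⟨c, hc⟩
  set R' := (R : Subgroup (centralizer ({u} : Set G))).map (centralizer ({u} : Set G)).subtype
  have hzR : z1 ∈ R' := ⟨⟨z1, hz1C⟩, hR (mem_zpowers z1), rfl⟩
  have hRM : R' ≤ M := two_group_le h hN hC h1 (R.2.map _) hzR
  have hgM : ((k⁻¹ * ⟨c, hc⟩ : centralizer ({u} : Set G)) : G) ∈ M := by
    refine mem_of_conj_cen h hN hC h1 (hRM ?_)
    refine ⟨_, (mem_normalizer_iff.mp hkc ⟨z1, hz1C⟩).mp (hR (mem_zpowers z1)), ?_⟩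
    simp
  have := mul_mem (hK hk) hgM
  simpa using this

/-- A minimal counterexample has no such subgroup. -/
theorem false_of_se (h : Setting π G) {M : Subgroup G} (hM : Cfsg.IsStronglyEmbedded M)
    {z1 z2 : G} (hz1 : z1 ∈ M) (ho1 : orderOf z1 = 2) (hz2 : z2 ∈ M) (ho2 : orderOf z2 = 2)
    (h12 : z1 ≠ z2) (hc : Commute z1 z2) : False := by
  haveI : Fact (Nat.Prime 2) := ⟨Nat.prime_two⟩
  haveI := h.simple
  have hF : H73.Bender.Faithful (⊤ : Subgroup G) (Set.univ : Set (G ⧸ M)) := by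
    show H73.Bender.kernel _ _ = ⊥
    rw [H73.Bender.kernel_top]
    exact (Subgroup.normalCore_normal M).eq_bot_or_eq_top.resolve_right fun e =>
      hM.1 (top_unique (e ▸ M.normalCore_le))
  have hcore := Bridge.coreFreeAll G (G ⧸ M) (⊤ : Subgroup G) Set.univ (H73.Bender.se_top hM)
    (H73.Bender.rankTwo_top_iff.mpr ⟨z1, z2, ho1, ho2, h12, hc⟩) hF ((1 : G) : G ⧸ M)
    (Set.mem_univ _)
  have hstab : ∀ g : G, g ∈ H73.Bender.ptStab (⊤ : Subgroup G) ((1 : G) : G ⧸ M) ↔ g ∈ M :=
    fun g => by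
      rw [H73.Bender.mem_ptStab, H39.se_smul_mk_eq_iff]
      simp
  have hK : kSub π M = ⊥ := hcore _ (fun g hg => (hstab g).mpr (kSub_le π M hg))
    (odd_kSub h hM.1)
    (fun g hg => normalizer_le_normalizer_kSub h hM.1 (le_normalizer ((hstab g).mp hg)))
  have hpi : ∀ x ∈ M, IsPiNumber π (orderOf x) := fun x hx => by
    obtain ⟨y, z, hyz, hy, hz, hy', hz'⟩ := exists_parts π x
    have hz1' : z = 1 := by
      have : z ∈ kSub π M := (mem_kSub h hM.1).mpr ⟨zpowers_le.mpr hx hz, hz'⟩
      simpa [hK] using this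
    rw [← hyz, hz1', mul_one]
    exact hy'
  obtain ⟨g, hg⟩ : ∃ g : G, g ∉ M := by
    by_contra hcon
    push Not at hcon
    exact hM.1 (eq_top_iff.mpr fun x _ => hcon x)
  have hcard := H39.se_card_swap hM ((1 : G) : G ⧸ M) (g : G ⧸ M)
  have htwo : 1 < Nat.card {t : G // orderOf t = 2 ∧ t ∈ M} := by
    haveI : Nontrivial {t : G // orderOf t = 2 ∧ t ∈ M} :=
      ⟨⟨z1, ho1, hz1⟩, ⟨z2, ho2, hz2⟩, fun e => h12 (congrArg Subtype.val e)⟩
    exact Finite.one_lt_card
  rw [← hcard] at htwo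
  haveI := Finite.one_lt_card_iff_nontrivial.mp htwo
  obtain ⟨⟨i, hi, hix⟩, ⟨j, hj, hjx⟩, hij⟩ :=
    exists_pair_ne {i : G // orderOf i = 2 ∧ i • ((1 : G) : G ⧸ M) = (g : G ⧸ M)}
  have hiM : i ∉ M := fun hiM => by
    rw [MulAction.Quotient.smul_mk, smul_eq_mul, mul_one, QuotientGroup.eq] at hix
    exact hg (by simpa using mul_mem hiM hix)
  have hii : i * i = 1 := by rw [← sq, ← hi]; exact pow_orderOf_eq_one i
  have hjj : j * j = 1 := by rw [← sq, ← hj]; exact pow_orderOf_eq_one j
  have hyM : j * i ∈ M := by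
    have e : ((i * 1 : G) : G ⧸ M) = ((j * 1 : G) : G ⧸ M) := hix.trans hjx.symm
    rw [mul_one, mul_one, QuotientGroup.eq, inv_eq_of_mul_eq_one_right hii] at e
    have := inv_mem e
    rwa [mul_inv_rev, inv_eq_of_mul_eq_one_right hii, inv_eq_of_mul_eq_one_right hjj] at this
  have hne : j * i ≠ 1 := fun e => hij (Subtype.ext (by
    show i = j
    calc i = (j * j) * i := by rw [hjj, one_mul]
      _ = j * (j * i) := by rw [mul_assoc]
      _ = j := by rw [e, mul_one]))
  have hinv : i * (j * i) * i⁻¹ = (j * i)⁻¹ := by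
    rw [mul_inv_rev, inv_eq_of_mul_eq_one_right hii, inv_eq_of_mul_eq_one_right hjj]
    simp [mul_assoc, hii]
  have hodd : Odd (orderOf (j * i)) := by
    rw [← Nat.not_even_iff_odd]
    intro he
    obtain ⟨d, hd⟩ := he
    set w := (j * i) ^ d with hw
    have hd0 : 0 < orderOf (j * i) := orderOf_pos _
    have hwo : orderOf w = 2 := by
      rw [hw, orderOf_pow' _ (by omega : d ≠ 0), hd, Nat.gcd_eq_right ⟨2, by omega⟩]
      exact Nat.div_eq_of_eq_mul_left (by omega) (by omega)
    have hwi : i * w * i⁻¹ = w := by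
      rw [hw, ← conj_pow, hinv, inv_pow, inv_eq_of_mul_eq_one_right]
      rw [← pow_add, ← hd]
      exact pow_orderOf_eq_one _
    exact hiM (H39.se_mem_of_conj hM hwo (pow_mem hyM d) (hwi.symm ▸ pow_mem hyM d))
  have hcomm := two_elt_commute h.hyp (k := 1) (by rw [hi, pow_one]) hodd (hpi _ hyM)
    (by rw [hinv]; exact inv_mem (mem_zpowers _))
  have h1 : i * (j * i) * i⁻¹ = j * i := by rw [hcomm.eq]; group
  rw [hinv, inv_eq_iff_mul_eq_one, ← sq] at h1
  have h2 : orderOf (j * i) = 1 := Nat.Coprime.eq_one_of_dvd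
    (Nat.coprime_two_right.mpr hodd) (orderOf_dvd_of_pow_eq_one h1)
  exact hne (orderOf_eq_one_iff.mp h2)

theorem false_of_proper (h : Setting π G) {S : Sylow 2 G} {M : Subgroup G} (hM : M ≠ ⊤)
    (hN : normalizer ((S : Subgroup G) : Set G) ≤ M)
    (hC : ∀ z, Cen S z → centralizer ({z} : Set G) ≤ M) : False := by
  obtain ⟨z1, z2, h1, h2, h12⟩ := exists_two_cen h S
  exact false_of_se h (isSE h hM hN hC) (hN (le_normalizer h1.mem)) h1.ord
    (hN (le_normalizer h2.mem)) h2.ord h12 (h2.comm z1 h1.mem)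

end Cfsg.Agent.H63.TwoClosed
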