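import Cfsg.Agent.H63.TwoClosed.Main
import Cfsg.Agent.S0483

/-!
# S3258 from the characterisation of `PSU₃(4)` alone
-/

set_option autoImplicit false

namespace Cfsg.Agent.H63.TwoClosed

open Subgroup

universe u

theorem gwKlein : GWKlein.{u} :=
  fun _ _ _ _ S hS => Cfsg.Agent.S0483.result S 2 le_rfl hS

/-- S3258 from the characterisation of `PSU₃(4)` by its Sylow `2`-subgroup. -/
theorem main_of_unitaryFour (u34 : UnitaryFour.{u}) {G : Type u} [Group G] [Finite G] {π : Set ℕ}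
    (h2 : 2 ∈ π)
    (hcl : ∀ H : Subgroup G, (∀ p : ℕ, p.Prime → p ∣ Nat.card H → p ∈ π) →
      ∀ P : Sylow 2 H, (P : Subgroup H).Normal) :
    (∃ K : Subgroup G, ∀ x : G, x ∈ K ↔ ∀ p : ℕ, p.Prime → p ∣ orderOf x → p ∉ π) ↔
      (∀ H : Subgroup G, H ≠ ⊥ → (∀ p : ℕ, p.Prime → p ∣ Nat.card H → p ∈ π) →
        ∀ p : ℕ, p.Prime → p ∣ (centralizer (H : Set G)).relIndex (normalizer (H : Set G)) → p ∈ π) :=
  main gwKlein u34 h2 hcl

end Cfsg.Agent.H63.TwoClosed
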