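import Cfsg.Agent.H63.TwoClosed.Reduce
import Cfsg.Agent.H39.Basic

/-!
# Local structure of a minimal counterexample

`M = K(M) N_M(R)` for a proper subgroup `M`, no `2`-element acts nontrivially on an odd cyclic
`π`-subgroup, and the normaliser of a Sylow `2`-subgroup controls `2`-fusion.
-/

set_option autoImplicit false
set_option linter.style.haveILetI false
set_option linter.unusedSectionVars false

namespace Cfsg.Agent.H63.TwoClosed

open Subgroup
open Cfsg.Agent.Hall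
open scoped Pointwise

variable {G : Type*} [Group G] [Finite G] {π : Set ℕ}

/-- The subgroup generated by the `π'`-elements of `M`. -/
def kSub (π : Set ℕ) (M : Subgroup G) : Subgroup G :=
  closure {x | x ∈ M ∧ PPrime π x}

theorem mem_kSub (h : Setting π G) {M : Subgroup G} (hM : M ≠ ⊤) {x : G} :
    x ∈ kSub π M ↔ x ∈ M ∧ PPrime π x := by
  obtain ⟨K, hK, -⟩ := exists_kSub (h.proper M hM)
  have e : {x | x ∈ M ∧ PPrime π x} = (K : Set G) := Set.ext fun y => (hK y).symm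
  rw [kSub, e, closure_eq, hK]

theorem card_kSub (h : Setting π G) {M : Subgroup G} (hM : M ≠ ⊤) :
    IsPiNumber πᶜ (Nat.card (kSub π M)) :=
  isPi_card_of_forall fun _ hx => ((mem_kSub h hM).mp hx).2

theorem odd_kSub (h : Setting π G) {M : Subgroup G} (hM : M ≠ ⊤) :
    Odd (Nat.card (kSub π M)) :=
  odd_of_compl h.hyp.two (card_kSub h hM)

theorem kSub_le (π : Set ℕ) (M : Subgroup G) : kSub π M ≤ M :=
  (closure_le _).mpr fun _ hx => hx.1

theorem normalizer_le_normalizer_kSub (h : Setting π G) {M : Subgroup G} (hM : M ≠ ⊤) :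
    normalizer (M : Set G) ≤ normalizer (kSub π M : Set G) := by
  refine le_normalizer_iff.mpr fun g hg x hx => ?_
  rw [mem_kSub h hM] at hx ⊢
  exact ⟨(mem_normalizer_iff.mp hg x).mp hx.1, hx.2.conj g⟩

theorem eq_top_or_bot (h : Setting π G) {N : Subgroup G} (hN : N.Normal) : N = ⊥ ∨ N = ⊤ :=
  haveI := h.simple
  hN.eq_bot_or_eq_top

theorem normalizer_ne_top (h : Setting π G) {T : Subgroup G} (h1 : T ≠ ⊥) (h2 : T ≠ ⊤) :
    normalizer (T : Set G) ≠ ⊤ := fun e => by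
  rcases eq_top_or_bot h (normalizer_eq_top_iff.mp e) with hb | ht
  · exact h1 hb
  · exact h2 ht

theorem even_card (h : Setting π G) : Even (Nat.card G) := by
  by_contra he
  have hs := Cfsg.Agent.S0205.result (Nat.not_even_iff_odd.mp he)
  haveI := h.simple
  exact h.noncomm ⟨⟨IsSimpleGroup.comm_iff_isSolvable.mpr hs⟩⟩

theorem pGroup_ne_top (h : Setting π G) {T : Subgroup G} (hT : IsPGroup 2 T) : T ≠ ⊤ := by
  rintro rfl
  haveI : Fact (Nat.Prime 2) := ⟨Nat.prime_two⟩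
  haveI := h.simple
  have hG : IsPGroup 2 G := hT.of_equiv Subgroup.topEquiv
  haveI := hG.isNilpotent
  exact h.noncomm ⟨⟨IsSimpleGroup.comm_iff_isSolvable.mpr inferInstance⟩⟩

theorem centralizer_ne_top (h : Setting π G) {z : G} (hz : z ≠ 1) :
    centralizer ({z} : Set G) ≠ ⊤ := fun e => by
  have hc : z ∈ center G := by
    rw [centralizer_eq_top_iff_subset] at e
    exact e rfl
  rcases eq_top_or_bot h (inferInstance : (center G).Normal) with hb | ht
  · exact hz (by simpa [hb] using hc)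
  · exact h.noncomm ⟨⟨fun a b => (mem_center_iff.mp (ht ▸ mem_top a) b).symm⟩⟩

/-- A `2`-element normalising an odd cyclic `π`-subgroup centralises it. -/
theorem two_elt_commute (h : Hyp π G) {x g : G} {k : ℕ} (hg : orderOf g = 2 ^ k)
    (hxo : Odd (orderOf x)) (hxp : IsPiNumber π (orderOf x))
    (hn : g * x * g⁻¹ ∈ zpowers x) : Commute g x := by
  haveI : Fact (Nat.Prime 2) := ⟨Nat.prime_two⟩
  have hgn : zpowers g ≤ normalizer (zpowers x : Set G) := by
    rw [zpowers_le]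
    refine mem_normalizer_fintype fun y hy => ?_
    obtain ⟨n, rfl⟩ := mem_zpowers_iff.mp hy
    rw [← conj_zpow]
    exact zpow_mem hn n
  set H := zpowers x ⊔ zpowers g with hH
  have hcard : Nat.card H ∣ Nat.card (zpowers x) * Nat.card (zpowers g) := by
    have hle : H ≤ normalizer (zpowers x : Set G) := sup_le le_normalizer hgn
    haveI := normal_subgroupOf_of_le_normalizer hle
    have := card_sup_dvd_mul ((zpowers x).subgroupOf H) ((zpowers g).subgroupOf H)
    rw [card_subgroupOf_of_le le_sup_left, card_subgroupOf_of_le le_sup_right,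
      ← subgroupOf_sup le_sup_left le_sup_right, subgroupOf_self, Subgroup.card_top] at this
    exact this
  have hHpi : IsPiNumber π (Nat.card H) := by
    refine IsPiNumber.of_dvd (IsPiNumber.mul ?_ ?_) hcard
    · rwa [Nat.card_zpowers]
    · rw [Nat.card_zpowers, hg]; exact two_pow_pi h.two k
  obtain ⟨P0⟩ : Nonempty (Sylow 2 H) := inferInstance
  have hP := h.closed2 H hHpi P0
  have hgH : g ∈ H := mem_sup_right (mem_zpowers g)
  have hxH : x ∈ H := mem_sup_left (mem_zpowers x)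
  have hgP : (⟨g, hgH⟩ : H) ∈ (P0 : Subgroup H) := by
    have hp : IsPGroup 2 (zpowers (⟨g, hgH⟩ : H)) :=
      IsPGroup.of_card (n := k) (by rw [Nat.card_zpowers, Subgroup.orderOf_mk, hg])
    obtain ⟨P1, hP1⟩ := hp.exists_le_sylow
    letI := Sylow.unique_of_normal P0 hP
    rw [← Subsingleton.elim P1 P0]
    exact hP1 (mem_zpowers _)
  set gH : H := ⟨g, hgH⟩
  set xH : H := ⟨x, hxH⟩
  have hc : gH * (xH * gH⁻¹ * xH⁻¹) ∈ (P0 : Subgroup H) :=
    mul_mem hgP (hP.conj_mem _ (inv_mem hgP) xH)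
  set c : G := g * x * g⁻¹ * x⁻¹ with hcdef
  have hc1 : c ∈ zpowers x := mul_mem hn (inv_mem (mem_zpowers x))
  have hc2 : ∃ j, orderOf c = 2 ^ j := by
    obtain ⟨j, hj⟩ := IsPGroup.iff_orderOf.mp P0.2 ⟨_, hc⟩
    refine ⟨j, ?_⟩
    rw [← hj, Subgroup.orderOf_mk, ← Subgroup.orderOf_coe]
    congr 1
    simp [hcdef, gH, xH, mul_assoc]
  obtain ⟨j, hj⟩ := hc2
  have hd : orderOf c ∣ orderOf x := orderOf_dvd_of_mem_zpowers hc1
  have hc3 : c = 1 := by
    rw [← orderOf_eq_one_iff, hj]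
    rcases Nat.eq_zero_or_pos j with rfl | hpos
    · rfl
    · exact absurd (even_iff_two_dvd.mpr ((dvd_pow_self 2 hpos.ne').trans (hj ▸ hd)))
        (Nat.not_even_iff_odd.mpr hxo)
  rw [hcdef] at hc3
  have : g * x * g⁻¹ = x := by
    calc g * x * g⁻¹ = g * x * g⁻¹ * x⁻¹ * x := by group
      _ = x := by rw [hc3, one_mul]
  exact mul_inv_eq_iff_eq_mul.mp this

/-- `M = K(M) N_M(R)` for every Sylow `2`-subgroup `R` of a proper subgroup `M`. -/
theorem decomp (h : Setting π G) {M : Subgroup G} (hM : M ≠ ⊤) (R : Sylow 2 M) (m : M) :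
    ∃ k : M, (k : G) ∈ kSub π M ∧ k⁻¹ * m ∈ normalizer ((R : Subgroup M) : Set M) := by
  haveI : Fact (Nat.Prime 2) := ⟨Nat.prime_two⟩
  set K0 := (kSub π M).subgroupOf M with hK0
  haveI : K0.Normal :=
    normal_subgroupOf_of_le_normalizer (le_normalizer.trans (normalizer_le_normalizer_kSub h hM))
  have hK0c : IsPiNumber πᶜ (Nat.card K0) := by
    rw [hK0, card_subgroupOf_of_le (kSub_le π M)]; exact card_kSub h hM
  have hidx : IsPiNumber π K0.index := by
    intro q hq hd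
    by_contra hqπ
    haveI : Fact q.Prime := ⟨hq⟩
    rw [index_eq_card] at hd
    obtain ⟨y, hy⟩ := exists_prime_orderOf_dvd_card' q hd
    obtain ⟨g, rfl⟩ := QuotientGroup.mk'_surjective K0 y
    obtain ⟨g', -, hgp, hfg⟩ := exists_pprime_lift (π := π) (QuotientGroup.mk' K0) (g := g)
      (by unfold PPrime; rw [hy]; exact IsPiNumber.prime hq hqπ)
    have : g' ∈ K0 := mem_subgroupOf.mpr ((mem_kSub h hM).mpr ⟨g'.2, pprime_coe.mpr hgp⟩)
    rw [← hfg, QuotientGroup.mk'_apply, (QuotientGroup.eq_one_iff g').mpr this, orderOf_one] at hy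
    exact hq.one_lt.ne hy
  obtain ⟨C, hC⟩ := exists_right_complement'_of_coprime (hidx.coprime hK0c).symm
  obtain ⟨P⟩ : Nonempty (Sylow 2 C) := inferInstance
  have hP : (P : Subgroup C).Normal :=
    (h.hyp.subgroup M).closed2 C (by rw [← hC.symm.index_eq_card]; exact hidx) P
  set R1 := (P : Subgroup C).map C.subtype with hR1
  have hCN : C ≤ normalizer (R1 : Set M) := by
    refine le_normalizer_iff.mpr fun c hc y hy => ?_
    obtain ⟨u, hu, rfl⟩ := hy
    exact ⟨⟨c, hc⟩ * u * ⟨c, hc⟩⁻¹, hP.conj_mem u hu _, rfl⟩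
  have hR1i : ¬ 2 ∣ R1.index := by
    rw [← relIndex_mul_index (show R1 ≤ C from map_subtype_le _)]
    have e : R1.relIndex C = (P : Subgroup C).index := by
      rw [relIndex, hR1, subgroupOf, comap_map_eq_self_of_injective C.subtype_injective]
    rw [e, hC.index_eq_card, Nat.prime_two.dvd_mul, not_or]
    exact ⟨P.not_dvd_index, fun hd => hK0c 2 Nat.prime_two hd h.hyp.two⟩
  set R0 := (P.2.map C.subtype).toSylow hR1i with hR0
  have hR0c : (R0 : Subgroup M) = R1 := rfl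
  have key : ∀ m : M, ∃ k ∈ K0, k⁻¹ * m ∈ normalizer (R1 : Set M) := fun m => by
    obtain ⟨⟨a, c⟩, hac⟩ := hC.2 m
    refine ⟨a, a.2, ?_⟩
    rw [← hac]
    simpa using hCN c.2
  obtain ⟨a, ha⟩ := MulAction.exists_smul_eq M R0 R
  obtain ⟨k, hk, hka⟩ := key a
  have hR : (R : Subgroup M) = MulAut.conj k • R1 := by
    rw [← ha, Sylow.coe_subgroup_smul, hR0c, show a = k * (k⁻¹ * a) by group, conj_mul_smul,
      conj_smul_of_le_normalizer (H := normalizer (R1 : Set M)) le_rfl hka]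
  obtain ⟨k1, hk1, hk1m⟩ := key (k⁻¹ * m * k)
  refine ⟨k * k1 * k⁻¹, ?_, ?_⟩
  · exact mem_subgroupOf.mp (mul_mem (mul_mem hk hk1) (inv_mem hk))
  · refine mem_normalizer_iff.mpr fun y => ?_
    rw [hR]
    simp only [mem_conj_smul]
    rw [mem_normalizer_iff.mp hk1m (k⁻¹ * y * k)]
    simp [mul_assoc]

/-- Two `2`-subgroups of a proper subgroup lie in one Sylow subgroup up to conjugation by `K(M)`. -/
theorem exists_k_conj (h : Setting π G) {M : Subgroup G} (hM : M ≠ ⊤) {T1 T2 : Subgroup G}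
    (h1 : T1 ≤ M) (h2 : T2 ≤ M) (hp1 : IsPGroup 2 T1) (hp2 : IsPGroup 2 T2) :
    ∃ R : Subgroup G, IsPGroup 2 R ∧ T1 ≤ R ∧ R ≤ M ∧
      ∃ k ∈ kSub π M, ∀ x ∈ T2, k * x * k⁻¹ ∈ R := by
  haveI : Fact (Nat.Prime 2) := ⟨Nat.prime_two⟩
  obtain ⟨R1, hR1⟩ := (hp1.of_equiv (subgroupOfEquivOfLe h1).symm).exists_le_sylow
  obtain ⟨R2, hR2⟩ := (hp2.of_equiv (subgroupOfEquivOfLe h2).symm).exists_le_sylow
  obtain ⟨a, ha⟩ := MulAction.exists_smul_eq M R2 R1
  obtain ⟨k, hk, hka⟩ := decomp h hM R2 a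
  have hR : (R1 : Subgroup M) = MulAut.conj k • (R2 : Subgroup M) := by
    rw [← ha, Sylow.coe_subgroup_smul, show a = k * (k⁻¹ * a) by group, conj_mul_smul,
      conj_smul_of_le_normalizer (H := normalizer ((R2 : Subgroup M) : Set M)) le_rfl hka]
  refine ⟨(R1 : Subgroup M).map M.subtype, R1.2.map _,
    fun x hx => ⟨⟨x, h1 hx⟩, hR1 hx, rfl⟩, map_subtype_le _, k, hk, fun x hx => ?_⟩
  refine ⟨k * ⟨x, h2 hx⟩ * k⁻¹, ?_, rfl⟩
  rw [hR, SetLike.mem_coe, mem_conj_smul]
  simpa [mul_assoc] using hR2 (show (⟨x, h2 hx⟩ : M) ∈ T2.subgroupOf M from hx)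

/-- `N(S)` controls the fusion of `2`-subgroups of `S`. -/
theorem fusion (h : Setting π G) (S : Sylow 2 G) : ∀ (T : Subgroup G), T ≤ (S : Subgroup G) →
    T ≠ ⊥ → ∀ g : G, (∀ x ∈ T, g * x * g⁻¹ ∈ (S : Subgroup G)) →
      ∃ n ∈ normalizer ((S : Subgroup G) : Set G), ∀ x ∈ T, g * x * g⁻¹ = n * x * n⁻¹ := by
  haveI : Fact (Nat.Prime 2) := ⟨Nat.prime_two⟩
  suffices H : ∀ (d : ℕ) (T : Subgroup G), Nat.card (S : Subgroup G) - Nat.card T = d →
      T ≤ (S : Subgroup G) → T ≠ ⊥ → ∀ g : G, (∀ x ∈ T, g * x * g⁻¹ ∈ (S : Subgroup G)) →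
      ∃ n ∈ normalizer ((S : Subgroup G) : Set G), ∀ x ∈ T, g * x * g⁻¹ = n * x * n⁻¹ from
    fun T => H _ T rfl
  intro d
  induction d using Nat.strong_induction_on with
  | _ d ih =>
  intro T hd hTS hT1 g hg
  set S' := (S : Subgroup G) with hS'
  by_cases hTeq : T = S'
  · subst hTeq
    exact ⟨g, mem_normalizer_fintype fun y hy => hg y hy, fun x _ => rfl⟩
  have hlt : T < S' := lt_of_le_of_ne hTS hTeq
  set T' := T.map (MulAut.conj g).toMonoidHom with hT'
  have hT'S : T' ≤ S' := by rintro _ ⟨x, hx, rfl⟩; exact hg x hx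
  have hT'c : Nat.card T' = Nat.card T := card_map_of_injective (MulAut.conj g).injective
  have hT'lt : T' < S' := by
    refine lt_of_le_of_ne hT'S fun e => hTeq (eq_of_le_of_card_ge hTS ?_)
    rw [← hT'c, e]
  set T1 := S' ⊓ normalizer (T : Set G) with hT1def
  set T2 := S' ⊓ normalizer (T' : Set G) with hT2def
  have big : ∀ {U : Subgroup G}, U < S' → U < S' ⊓ normalizer (U : Set G) := fun {U} hU => by
    obtain ⟨x, hxS, hxU, hxN⟩ := H39.exists_mem_normalizer_not_mem S.2 hU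
    exact lt_of_le_of_ne (le_inf hU.le le_normalizer) fun e => hxU (e ▸ mem_inf.mpr ⟨hxS, hxN⟩)
  have hcard : ∀ {U V : Subgroup G}, U < V → Nat.card U < Nat.card V := fun {U V} hUV => by
    refine lt_of_le_of_ne (Subgroup.card_le_of_le hUV.le) fun e => hUV.ne ?_
    exact eq_of_le_of_card_ge hUV.le e.ge
  have hM : normalizer (T : Set G) ≠ ⊤ :=
    normalizer_ne_top h hT1 (pGroup_ne_top h (S.2.to_le hTS))
  set T2' := T2.map (MulAut.conj g⁻¹).toMonoidHom with hT2'
  have hT2'M : T2' ≤ normalizer (T : Set G) := by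
    rintro _ ⟨t, ⟨-, ht⟩, rfl⟩
    refine mem_normalizer_iff.mpr fun y => ?_
    have h' := mem_normalizer_iff.mp ht (g * y * g⁻¹)
    rw [hT'] at h'
    simp only [mem_map_conj_iff] at h'
    simpa [mul_assoc] using h'
  obtain ⟨R, hRp, hT1R, hRM, k, hk, hkR⟩ := exists_k_conj h hM (T1 := T1) (T2 := T2')
    inf_le_right hT2'M (S.2.to_le inf_le_left) ((S.2.to_le inf_le_left).map _)
  obtain ⟨c, hc⟩ := H39.exists_conj_le_sylow hRp S
  obtain ⟨n1, hn1, hn1x⟩ := ih _ (by
      have h3 := hcard (big hlt)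
      have h4 := Subgroup.card_le_of_le (inf_le_left : T1 ≤ S')
      rw [← hd]; simp only [hT1def] at h3 h4 ⊢; omega) T1 rfl inf_le_left
    (fun e => hT1 (eq_bot_iff.mpr ((big hlt).le.trans e.le))) c
    (fun x hx => hc x (hT1R hx))
  obtain ⟨n2, hn2, hn2x⟩ := ih _ (by
      have h3 := hcard (big hT'lt)
      have h4 := Subgroup.card_le_of_le (inf_le_left : T2 ≤ S')
      rw [← hd]; simp only [hT2def] at h3 h4 ⊢; omega) T2 rfl inf_le_left
    (fun e => hT1 (by
      have := (big hT'lt).le.trans e.le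
      rwa [le_bot_iff, hT', map_eq_bot_iff_of_injective _ (MulAut.conj g).injective] at this))
    (c * k * g⁻¹)
    (fun t ht => by
      have := hc _ (hkR (g⁻¹ * t * g) ⟨t, ht, by simp⟩)
      simpa [mul_assoc] using this)
  refine ⟨n2⁻¹ * n1, mul_mem (inv_mem hn2) hn1, fun x hx => ?_⟩
  have hkx : k * x * k⁻¹ = x := by
    have hkk := (mem_kSub h hM).mp hk
    have := h.hyp.homog T (isPi_of_pGroup h.hyp.two (S.2.to_le hTS)) k hkk.1 hkk.2
    rw [mem_centralizer_iff] at this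
    rw [← this x hx]; group
  have e1 := hn1x x ((big hlt).le hx)
  have e2 := hn2x (g * x * g⁻¹) ((big hT'lt).le ⟨x, hx, rfl⟩)
  have e3 : c * x * c⁻¹ = n2 * (g * x * g⁻¹) * n2⁻¹ := by
    rw [← e2]
    calc c * x * c⁻¹ = c * (k * x * k⁻¹) * c⁻¹ := by rw [hkx]
      _ = _ := by group
  calc g * x * g⁻¹ = n2⁻¹ * (n2 * (g * x * g⁻¹) * n2⁻¹) * n2 := by group
    _ = n2⁻¹ * (n1 * x * n1⁻¹) * n2 := by rw [← e3, e1]
    _ = _ := by group

/-- A `2`-element of `N(S)` lies in `S`. -/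
theorem mem_sylow_of_normalizer (S : Sylow 2 G) {y : G} {k : ℕ} (hy : orderOf y = 2 ^ k)
    (hN : y ∈ normalizer ((S : Subgroup G) : Set G)) : y ∈ (S : Subgroup G) := by
  haveI : Fact (Nat.Prime 2) := ⟨Nat.prime_two⟩
  have hp : IsPGroup 2 (zpowers y) := IsPGroup.of_card (n := k) (by rw [Nat.card_zpowers, hy])
  rw [← S.is_maximal' (S.2.to_sup_of_normal_left' hp (zpowers_le.mpr hN)) le_sup_left]
  exact mem_sup_right (mem_zpowers y)

end Cfsg.Agent.H63.TwoClosed
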