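import Cfsg.Agent.H63.TwoClosed.RankTwo

/-!
# S3258 from the two recognition theorems
-/

set_option autoImplicit false
set_option linter.style.haveILetI false
set_option linter.unusedSectionVars false

namespace Cfsg.Agent.H63.TwoClosed

open Subgroup
open scoped commutatorElement
open Cfsg.Agent.Hall

universe u

variable {G : Type u} [Group G] [Finite G] {π : Set ℕ}

theorem normalizer_le_normalizer_cent (H : Subgroup G) :
    normalizer (H : Set G) ≤ normalizer (centralizer (H : Set G) : Set G) := by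
  refine le_normalizer_iff.mpr fun g hg c hc => ?_
  rw [mem_centralizer_iff] at hc ⊢
  intro h hh
  have h1 := hc (g⁻¹ * h * g) ((mem_normalizer_iff''.mp hg h).mp hh)
  calc h * (g * c * g⁻¹) = g * (g⁻¹ * h * g * c) * g⁻¹ := by group
    _ = g * (c * (g⁻¹ * h * g)) * g⁻¹ := by rw [h1]
    _ = _ := by group

/-- In a `π'`-closed group the automisers of `π`-subgroups are `π`-groups. -/
theorem automiser_of_closed (hK : Closed π G) (H : Subgroup G) (hH : IsPiNumber π (Nat.card H))
    (p : ℕ) (hp : p.Prime)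
    (hd : p ∣ (centralizer (H : Set G)).relIndex (normalizer (H : Set G))) : p ∈ π := by
  by_contra hpπ
  obtain ⟨K, hK⟩ := hK
  set N := normalizer (H : Set G) with hN
  set C := (centralizer (H : Set G)).subgroupOf N with hC
  haveI : C.Normal := normal_subgroupOf_of_le_normalizer
    (show N ≤ normalizer (centralizer (H : Set G) : Set G) from normalizer_le_normalizer_cent H)
  haveI : Fact p.Prime := ⟨hp⟩
  rw [relIndex, index_eq_card] at hd
  obtain ⟨y, hy⟩ := exists_prime_orderOf_dvd_card' p hd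
  obtain ⟨g, rfl⟩ := QuotientGroup.mk'_surjective C y
  obtain ⟨g', -, hgp, hfg⟩ := exists_pprime_lift (π := π) (QuotientGroup.mk' C) (g := g)
    (by unfold PPrime; rw [hy]; exact IsPiNumber.prime hp hpπ)
  have hgK : (g' : G) ∈ K := (hK _).mpr (pprime_coe.mpr hgp)
  have : g' ∈ C := by
    rw [hC, mem_subgroupOf, mem_centralizer_iff]
    intro h hh
    have h1 : (g' : G) * h * (g' : G)⁻¹ * h⁻¹ ∈ H :=
      mul_mem ((mem_normalizer_iff.mp g'.2 h).mp hh) (inv_mem hh)
    have h2 : PPrime π ((g' : G) * h * (g' : G)⁻¹ * h⁻¹) := by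
      have : (g' : G) * (h * (g' : G)⁻¹ * h⁻¹) ∈ K :=
        mul_mem hgK ((hK _).mpr (((hK _).mp (inv_mem hgK)).conj h))
      rw [mul_assoc, mul_assoc]
      rw [mul_assoc] at this
      exact (hK _).mp this
    have h3 : (g' : G) * h * (g' : G)⁻¹ * h⁻¹ = 1 := orderOf_eq_one_iff.mp
      (IsPiNumber.eq_one (hH.of_dvd (orderOf_dvd_natCard H h1)) h2)
    calc h * (g' : G) = ((g' : G) * h * (g' : G)⁻¹ * h⁻¹) * (h * g') := by rw [h3, one_mul]
      _ = g' * h := by group
  rw [← hfg, QuotientGroup.mk'_apply, (QuotientGroup.eq_one_iff g').mpr this, orderOf_one] at hy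
  exact hp.one_lt.ne hy

/-- The hypothesis of S3258 in element form. -/
theorem hyp_of_automiser (h2 : 2 ∈ π)
    (hcl : ∀ H : Subgroup G, IsPiNumber π (Nat.card H) → ∀ P : Sylow 2 H, (P : Subgroup H).Normal)
    (hA : ∀ H : Subgroup G, H ≠ ⊥ → IsPiNumber π (Nat.card H) →
      IsPiNumber π ((centralizer (H : Set G)).relIndex (normalizer (H : Set G)))) : Hyp π G where
  two := h2
  closed2 := hcl
  homog H hH x hx hp := by
    by_cases hb : H = ⊥
    · subst hb
      rw [mem_centralizer_iff]
      intro y hy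
      rw [show y = 1 from mem_bot.mp hy, one_mul, mul_one]
    set N := normalizer (H : Set G) with hN
    haveI : ((centralizer (H : Set G)).subgroupOf N).Normal := normal_subgroupOf_of_le_normalizer
      (show N ≤ normalizer (centralizer (H : Set G) : Set G) from normalizer_le_normalizer_cent H)
    have h1 := pow_index_mem ((centralizer (H : Set G)).subgroupOf N) ⟨x, hx⟩
    exact mem_of_pow_mem ((hA H hb hH).coprime hp) h1

/-- S3258 from the recognition theorems. -/
theorem main (gw : GWKlein.{u}) (u34 : UnitaryFour.{u}) (h2 : 2 ∈ π)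
    (hcl : ∀ H : Subgroup G, (∀ p : ℕ, p.Prime → p ∣ Nat.card H → p ∈ π) →
      ∀ P : Sylow 2 H, (P : Subgroup H).Normal) :
    (∃ K : Subgroup G, ∀ x : G, x ∈ K ↔ ∀ p : ℕ, p.Prime → p ∣ orderOf x → p ∉ π) ↔
      (∀ H : Subgroup G, H ≠ ⊥ → (∀ p : ℕ, p.Prime → p ∣ Nat.card H → p ∈ π) →
        ∀ p : ℕ, p.Prime → p ∣ (centralizer (H : Set G)).relIndex (normalizer (H : Set G)) → p ∈ π) :=
  ⟨fun hK H _ hH p hp hd => automiser_of_closed hK H hH p hp hd, fun hA =>
    closed_of_no_setting (fun _ _ _ h => no_setting gw u34 h) G (hyp_of_automiser h2 hcl hA)⟩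

end Cfsg.Agent.H63.TwoClosed
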