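import Cfsg.Agent.H63.TwoClosed.Basic
import Cfsg.Agent.H63.TwoClosed.Local
import Cfsg.Prelude.Def_Classical
import Cfsg.Agent.Unitary.Center
import Mathlib.FieldTheory.Finite.Basic
import Mathlib.GroupTheory.Transfer
import Mathlib.LinearAlgebra.Matrix.ProjectiveSpecialLinearGroup
import Mathlib.GroupTheory.SpecificGroups.Alternating

/-!
# `A₇`, `PSL₂(q)`, `q` odd, and `PSU₃(4)` violate the hypothesis when `3 ∈ π`
-/

set_option autoImplicit false
set_option linter.style.haveILetI false
set_option linter.unusedSectionVars false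

namespace Cfsg.Agent.H63.TwoClosed

open Subgroup
open Cfsg.Agent.Hall
open scoped MatrixGroups

universe u

variable {π : Set ℕ}

theorem false_of_inverted {P : Type*} [Group P] [Finite P] (h : Hyp π P) {r : ℕ} (hr : r.Prime)
    (hr2 : r ≠ 2) (hrπ : r ∈ π) {x t : P} (hx : orderOf x = r) (ht : t ^ 2 = 1)
    (hinv : t * x * t⁻¹ = x⁻¹) : False := by
  obtain ⟨k, -, hk⟩ := (Nat.dvd_prime_pow Nat.prime_two).mp
    (show orderOf t ∣ 2 ^ 1 by rw [pow_one]; exact orderOf_dvd_of_pow_eq_one ht)
  have hc := two_elt_commute h hk (hx ▸ hr.odd_of_ne_two hr2) (hx ▸ IsPiNumber.prime hr hrπ)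
    (hinv.symm ▸ inv_mem (mem_zpowers x))
  have h1 : t * x * t⁻¹ = x := by rw [hc.eq]; group
  rw [hinv, inv_eq_iff_mul_eq_one, ← sq] at h1
  have := orderOf_dvd_of_pow_eq_one h1
  rw [hx, Nat.prime_dvd_prime_iff_eq hr Nat.prime_two] at this
  exact hr2 this

theorem false_of_alternating_seven (h : Hyp π (alternatingGroup (Fin 7))) (h3 : 3 ∈ π) : False := by
  refine false_of_inverted h Nat.prime_three (by norm_num) h3
    (x := ⟨Equiv.swap 0 1 * Equiv.swap 1 2, Equiv.Perm.mem_alternatingGroup.mpr (by decide)⟩)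
    (t := ⟨Equiv.swap 0 1 * Equiv.swap 3 4, Equiv.Perm.mem_alternatingGroup.mpr (by decide)⟩) ?_ ?_ ?_
  · haveI : Fact (Nat.Prime 3) := ⟨Nat.prime_three⟩
    exact orderOf_eq_prime (by decide) (by decide)
  · decide
  · decide

section PSL

variable {F : Type} [Field F]

noncomputable def sl (a b c d : F) (hd : a * d - b * c = 1) : SL(2, F) :=
  ⟨!![a, b; c, d], by rw [Matrix.det_fin_two_of]; exact hd⟩

theorem coe_sl (a b c d : F) (hd : a * d - b * c = 1) :
    ((sl a b c d hd : SL(2, F)) : Matrix (Fin 2) (Fin 2) F) = !![a, b; c, d] := rfl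

variable [Fintype F]

theorem false_of_psl (hodd : Odd (Fintype.card F)) (h3lt : 3 < Fintype.card F)
    (h : Hyp π (Matrix.ProjectiveSpecialLinearGroup (Fin 2) F)) (h3 : 3 ∈ π) : False := by
  classical
  set f : SL(2, F) →* Matrix.ProjectiveSpecialLinearGroup (Fin 2) F :=
    QuotientGroup.mk' (center SL(2, F)) with hf
  have hker : ∀ s : SL(2, F), f s = 1 ↔ ∀ y : SL(2, F), y * s = s * y := fun s => by
    rw [hf, QuotientGroup.mk'_apply, QuotientGroup.eq_one_iff, mem_center_iff]
  have h2 : (2 : F) ≠ 0 := Ring.two_ne_zero fun hc => by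
    have := FiniteField.even_card_iff_char_two.mp hc
    rw [Nat.odd_iff] at hodd
    omega
  have hsq : ∀ s : SL(2, F), (s : Matrix (Fin 2) (Fin 2) F) * s = -1 → f s ^ 2 = 1 := by
    intro s hs
    rw [← map_pow, hker]
    intro y
    apply Subtype.ext
    simp [sq, hs]
  have fin3 : ∀ (x t y : SL(2, F)), x ^ 3 = 1 → y * x ≠ x * y →
      (t : Matrix (Fin 2) (Fin 2) F) * t = -1 → t * x = x⁻¹ * t → False := by
    intro x t y hx hyx ht htx
    haveI : Fact (Nat.Prime 3) := ⟨Nat.prime_three⟩
    refine false_of_inverted h Nat.prime_three (by norm_num) h3 (x := f x) (t := f t) ?_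
      (hsq t ht) ?_
    · refine orderOf_eq_prime (by rw [← map_pow, hx, map_one]) fun e => hyx ((hker x).mp e y)
    · rw [← map_inv, ← map_inv, ← map_mul, ← map_mul, htx]
      simp [mul_assoc]
  by_cases hp3 : (3 : F) = 0
  swap
  · -- an element of order three of trace `-1`
    obtain ⟨u, b, hub⟩ := FiniteField.exists_root_sum_quadratic
      (f := (Polynomial.X ^ 2 : Polynomial F))
      (g := Polynomial.C 3 * Polynomial.X ^ 2 + Polynomial.C 4)
      (by simp)
      (by compute_degree <;> simp [hp3])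
      (FiniteField.odd_card_of_char_ne_two fun hc => by
        have := FiniteField.even_card_iff_char_two.mp hc
        rw [Nat.odd_iff] at hodd
        omega)
    simp only [Polynomial.eval_pow, Polynomial.eval_X, Polynomial.eval_add, Polynomial.eval_mul,
      Polynomial.eval_C] at hub
    obtain ⟨a, ha⟩ : ∃ a : F, a = (u - b) / 2 := ⟨_, rfl⟩
    have hub' : a * (-a) - b * (a + b) = 1 := by
      rw [ha]
      field_simp
      linear_combination (-1 : F) * hub
    refine fin3 (sl 0 (-1) 1 (-1) (by ring)) (sl a b (a + b) (-a) hub') (sl 1 1 0 1 (by ring))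
      ?_ ?_ ?_ ?_
    · apply Subtype.ext
      simp [coe_sl, pow_succ, Matrix.one_fin_two]
    · intro e
      have := congrArg (fun s : SL(2, F) => (s : Matrix (Fin 2) (Fin 2) F) 0 0) e
      simp [coe_sl] at this
    · rw [show (-1 : Matrix (Fin 2) (Fin 2) F) = !![-1, 0; 0, -1] by simp [Matrix.one_fin_two]]
      simp only [coe_sl, Matrix.mul_fin_two]
      ext i j
      fin_cases i <;> fin_cases j <;> simp <;>
        first | linear_combination (-1 : F) * hub' | ring1
    · rw [eq_inv_mul_iff_mul_eq]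
      apply Subtype.ext
      simp only [coe_sl, Matrix.SpecialLinearGroup.coe_mul, Matrix.mul_fin_two]
      ext i j
      fin_cases i <;> fin_cases j <;> simp <;> ring
  by_cases hneg : IsSquare (-1 : F)
  · obtain ⟨i, hi⟩ := hneg
    refine fin3 (sl 1 1 0 1 (by ring)) (sl i 0 0 (-i) (by linear_combination (1 : F) * hi))
      (sl 1 0 1 1 (by ring)) ?_ ?_ ?_ ?_
    · apply Subtype.ext
      have h3' : (1 : F) + 1 + 1 = 0 := by linear_combination hp3
      simp [coe_sl, pow_succ, Matrix.one_fin_two]
      linear_combination h3'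
    · intro e
      have := congrArg (fun s : SL(2, F) => (s : Matrix (Fin 2) (Fin 2) F) 0 0) e
      simp [coe_sl] at this
    · rw [show (-1 : Matrix (Fin 2) (Fin 2) F) = !![-1, 0; 0, -1] by simp [Matrix.one_fin_two]]
      simp [coe_sl, ← hi]
    · rw [eq_inv_mul_iff_mul_eq]
      apply Subtype.ext
      simp only [coe_sl, Matrix.SpecialLinearGroup.coe_mul, Matrix.mul_fin_two]
      ext i' j'
      fin_cases i' <;> fin_cases j' <;> simp
  · -- an odd prime divisor of `(q - 1) / 2`
    rw [FiniteField.isSquare_neg_one_iff, not_not] at hneg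
    set r := ((Fintype.card F - 1) / 2).minFac with hrdef
    have hr : r.Prime := Nat.minFac_prime (by omega)
    have hr2 : r ≠ 2 := fun e => by
      have := Nat.minFac_dvd ((Fintype.card F - 1) / 2)
      rw [← hrdef, e] at this
      omega
    have hrd : r ∣ Fintype.card Fˣ := by
      rw [Fintype.card_units]
      exact (Nat.minFac_dvd _).trans ⟨2, by omega⟩
    haveI : Fact r.Prime := ⟨hr⟩
    obtain ⟨a, ha⟩ := exists_prime_orderOf_dvd_card r hrd
    set d : SL(2, F) := sl (a : F) 0 0 ((a⁻¹ : Fˣ) : F) (by simp) with hd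
    set w : SL(2, F) := sl 0 1 (-1) 0 (by ring) with hw
    have hdpow : ∀ n : ℕ, (d ^ n : SL(2, F)) = sl ((a ^ n : Fˣ) : F) 0 0 ((a⁻¹ ^ n : Fˣ) : F)
        (by simp) := by
      intro n
      induction n with
      | zero => apply Subtype.ext; simp [coe_sl, Matrix.one_fin_two]
      | succ n ih =>
          rw [pow_succ, ih]
          apply Subtype.ext
          simp [hd, coe_sl, pow_succ]
    have hdr : f d ^ r = 1 := by
      rw [← map_pow, hdpow, hf, QuotientGroup.mk'_apply, QuotientGroup.eq_one_iff]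
      have e : a ^ r = 1 := ha ▸ pow_orderOf_eq_one a
      convert one_mem (center SL(2, F))
      apply Subtype.ext
      simp [coe_sl, e, inv_pow, Matrix.one_fin_two]
    have hasq : (a : F) * a ≠ 1 := fun e => by
      have : a ^ 2 = 1 := Units.ext (by simpa [sq] using e)
      have := orderOf_dvd_of_pow_eq_one this
      rw [ha, Nat.prime_dvd_prime_iff_eq hr Nat.prime_two] at this
      exact hr2 this
    have hd1 : f d ≠ 1 := fun e => hasq (by
      have h' := congrArg (fun s : SL(2, F) => (s : Matrix (Fin 2) (Fin 2) F) 0 1) ((hker d).mp e w)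
      simp [hd, hw, coe_sl] at h'
      have h'' := mul_inv_cancel₀ (a.ne_zero : (a : F) ≠ 0)
      rwa [h'] at h'')
    have hord : orderOf (f d) = r := orderOf_eq_prime hdr hd1
    -- the unipotent subgroup
    let uh : Multiplicative F →* SL(2, F) :=
      { toFun := fun b => sl 1 b.toAdd 0 1 (by ring)
        map_one' := by apply Subtype.ext; simp [coe_sl, Matrix.one_fin_two]
        map_mul' := fun b c => by apply Subtype.ext; simp [coe_sl, add_comm] }
    have huh : ∀ b : Multiplicative F,
        ((uh b : SL(2, F)) : Matrix (Fin 2) (Fin 2) F) = !![1, b.toAdd; 0, 1] := fun b => rfl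
    set U := (f.comp uh).range with hU
    haveI : CharP F 3 := by
      refine (CharP.charP_iff_prime_eq_zero Nat.prime_three).mpr ?_
      exact_mod_cast hp3
    obtain ⟨n, -, hn⟩ := FiniteField.card F 3
    have hUc : IsPiNumber π (Nat.card U) := by
      refine IsPiNumber.of_dvd ((IsPiNumber.prime Nat.prime_three h3).pow n)
        ((Subgroup.card_range_dvd (f.comp uh)).trans (dvd_of_eq ?_))
      rw [Nat.card_congr Multiplicative.toAdd, Nat.card_eq_fintype_card, hn]
    have hrπ : r ∈ π := by
      by_contra hcon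
      have hnorm : f d ∈ normalizer (U : Set (Matrix.ProjectiveSpecialLinearGroup (Fin 2) F)) := by
        refine mem_normalizer_fintype ?_
        rintro _ ⟨b, rfl⟩
        refine ⟨Multiplicative.ofAdd ((a : F) * a * b.toAdd), ?_⟩
        rw [MonoidHom.comp_apply, MonoidHom.comp_apply, eq_mul_inv_iff_mul_eq, ← map_mul, ← map_mul]
        congr 1
        apply Subtype.ext
        simp [huh, hd, coe_sl]
        field_simp
      have hc := h.homog U hUc (f d) hnorm (by
        unfold PPrime; rw [hord]; exact IsPiNumber.prime hr hcon)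
      have h1 := mem_centralizer_iff.mp hc (f (uh (Multiplicative.ofAdd 1)))
        ⟨Multiplicative.ofAdd 1, rfl⟩
      rw [← map_mul, ← map_mul] at h1
      have h1' : f ((uh (Multiplicative.ofAdd 1) * d)⁻¹ * (d * uh (Multiplicative.ofAdd 1))) = 1 := by
        rw [map_mul, map_inv, h1, inv_mul_cancel]
      have h1'' : f ((d * uh (Multiplicative.ofAdd 1)) * (uh (Multiplicative.ofAdd 1) * d)⁻¹) = 1 := by
        rw [map_mul, map_inv, h1, mul_inv_cancel]
      have h' := congrArg (fun s : SL(2, F) => (s : Matrix (Fin 2) (Fin 2) F) 0 0)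
        ((hker _).mp h1'' w)
      simp [huh, hd, hw, coe_sl, Matrix.SpecialLinearGroup.coe_inv, Matrix.adjugate_fin_two] at h'
      refine hasq ?_
      field_simp at h'
      linear_combination h'
    refine false_of_inverted h hr hr2 hrπ hord (t := f w) (hsq w ?_) ?_
    · simp [hw, coe_sl, Matrix.one_fin_two]
    · rw [← map_inv, ← map_inv, ← map_mul, ← map_mul]
      congr 1
      apply Subtype.ext
      simp [hd, hw, coe_sl, Matrix.SpecialLinearGroup.coe_inv, Matrix.adjugate_fin_two]

end PSL

/-- In a simple group satisfying the hypothesis with `3 ∈ π` the order is divisible by `9`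
if it is divisible by `3`. -/
theorem false_of_three_once {P : Type*} [Group P] [Finite P] [IsSimpleGroup P] (h : Hyp π P)
    (h3 : 3 ∈ π) (hd : 3 ∣ Nat.card P) (h9 : ¬ 9 ∣ Nat.card P) (hne : Nat.card P ≠ 3) : False := by
  haveI : Fact (Nat.Prime 3) := ⟨Nat.prime_three⟩
  haveI : Fact (Nat.Prime 2) := ⟨Nat.prime_two⟩
  obtain ⟨T⟩ : Nonempty (Sylow 3 P) := inferInstance
  have hT : Nat.card (T : Subgroup P) = 3 := by
    obtain ⟨k, hk⟩ := IsPGroup.iff_card.mp T.2
    have h1 : 3 ∣ Nat.card (T : Subgroup P) := T.dvd_card_of_dvd_card hd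
    have h2 : k ≤ 1 := by
      by_contra hk2
      exact h9 (((pow_dvd_pow 3 (by omega : 2 ≤ k)).trans hk.symm.dvd).trans
        (Subgroup.card_subgroup_dvd_card _))
    rcases Nat.le_one_iff_eq_zero_or_eq_one.mp h2 with rfl | rfl
    · rw [hk] at h1; norm_num at h1
    · rw [hk, pow_one]
  obtain ⟨g, hg⟩ := exists_prime_orderOf_dvd_card' (G := (T : Subgroup P)) 3 (dvd_of_eq hT.symm)
  have hgo : orderOf (g : P) = 3 := by rw [Subgroup.orderOf_coe, hg]
  have hTz : zpowers (g : P) = (T : Subgroup P) :=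
    eq_of_le_of_card_ge (zpowers_le.mpr g.2) (by rw [hT, Nat.card_zpowers, hgo])
  have key : normalizer ((T : Subgroup P) : Set P) ≤ centralizer ((T : Subgroup P) : Set P) := by
    intro n hn
    have hng : n * g * n⁻¹ ∈ zpowers (g : P) := by
      rw [hTz]; exact (mem_normalizer_iff.mp hn _).mp g.2
    have hcases : n * g * n⁻¹ = g ∨ n * g * n⁻¹ = (g : P)⁻¹ := by
      obtain ⟨j, hj⟩ := mem_zpowers_iff.mp hng
      rw [← zpow_mod_orderOf, hgo] at hj
      have h0 : j % ((3 : ℕ) : ℤ) = 0 ∨ j % ((3 : ℕ) : ℤ) = 1 ∨ j % ((3 : ℕ) : ℤ) = 2 := by omega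
      rcases h0 with e | e | e <;> rw [e] at hj
      · rw [zpow_zero, eq_comm, mul_inv_eq_one, mul_eq_left] at hj
        rw [hj, orderOf_one] at hgo; omega
      · left; rw [← hj, zpow_one]
      · right
        rw [← hj, show (2 : ℤ) = ((2 : ℕ) : ℤ) from rfl, zpow_natCast, eq_inv_iff_mul_eq_one,
          ← pow_succ]
        show (g : P) ^ 3 = 1
        exact orderOf_dvd_iff_pow_eq_one.mp (dvd_of_eq hgo)
    have hsq : Commute (n ^ 2) (g : P) := by
      have : n * (n * g * n⁻¹) * n⁻¹ = g := by
        rcases hcases with e | e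
        · rw [e, e]
        · rw [e, ← conj_inv, e, inv_inv]
      show n ^ 2 * g = g * n ^ 2
      calc n ^ 2 * g = n * (n * g * n⁻¹) * n⁻¹ * n ^ 2 := by rw [sq]; group
        _ = _ := by rw [this]
    obtain ⟨y, z, hyz, hy, hz, hy', hz'⟩ := exists_parts ({2} : Set ℕ) n
    have hzodd : Odd (orderOf z) := odd_of_compl (Set.mem_singleton 2) hz'
    have hzc : Commute z (g : P) := by
      obtain ⟨j, rfl⟩ := mem_zpowers_iff.mp hz
      have h2 : (n ^ j) ^ 2 ∈ centralizer ({(g : P)} : Set P) := by
        rw [← zpow_natCast, ← zpow_mul, mul_comm, zpow_mul, zpow_natCast]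
        exact zpow_mem (mem_centralizer_singleton_iff.mpr hsq) j
      exact mem_centralizer_singleton_iff.mp
        (mem_of_pow_mem (Nat.coprime_two_left.mpr hzodd) h2)
    have hyn : y * g * y⁻¹ ∈ zpowers (g : P) := by
      rw [hTz]
      exact (mem_normalizer_iff.mp (zpowers_le.mpr hn hy) _).mp g.2
    obtain ⟨k, hk⟩ : ∃ k, orderOf y = 2 ^ k := by
      refine ⟨_, Nat.eq_prime_pow_of_unique_prime_dvd (orderOf_pos y).ne' fun {q} hq hqd => ?_⟩
      exact hy' q hq hqd
    have hyc := two_elt_commute h hk (by rw [hgo]; decide)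
      (by rw [hgo]; exact IsPiNumber.prime Nat.prime_three h3) hyn
    rw [← hTz, mem_centralizer_iff]
    rintro x hx
    obtain ⟨j, rfl⟩ := mem_zpowers_iff.mp hx
    exact ((hyz ▸ hyc.mul_left hzc : Commute n (g : P)).zpow_right j).symm.eq
  have hK := MonoidHom.ker_transferSylow_isComplement' T key
  rcases (MonoidHom.normal_ker (MonoidHom.transferSylow T key)).eq_bot_or_eq_top with e | e
  · rw [e, isComplement'_bot_left] at hK
    exact hne (by rw [← Subgroup.card_top (G := P), ← hK, hT])
  · rw [e, isComplement'_top_left] at hK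
    rw [hK, Subgroup.card_bot] at hT
    omega

end Cfsg.Agent.H63.TwoClosed
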