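import Cfsg.Agent.H63.TwoClosed.Signalizer
import Cfsg.Agent.H63.TwoClosed.Witness
import Cfsg.Agent.Cores.PCore
import Cfsg.Agent.Unitary.Center
import Mathlib.GroupTheory.SpecificGroups.Dihedral
import Mathlib.FieldTheory.Finite.GaloisField

/-!
# Two-rank two: a minimal counterexample has Sylow `2`-subgroup Klein or of `PSU₃(4)` type
-/

set_option autoImplicit false
set_option linter.style.haveILetI false
set_option linter.unusedSectionVars false
set_option linter.unusedSimpArgs false

namespace Cfsg.Agent.H63.TwoClosed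

open Subgroup
open scoped commutatorElement
open Cfsg.Agent.Hall

universe u

variable {G : Type u} [Group G] [Finite G] {π : Set ℕ}

/-- Gorenstein-Walter for Klein four Sylow subgroups, as used here. -/
def GWKlein : Prop :=
  ∀ (X : Type u) [Group X] [Finite X] [Group.IsPerfect X] (S : Sylow 2 X),
    Nonempty ((S : Subgroup X) ≃* DihedralGroup 2) →
    (∃ (F : Type) (_ : Field F) (_ : Fintype F), Odd (Fintype.card F) ∧ 3 < Fintype.card F ∧
        Nonempty (X ⧸ Cfsg.oddCore X ≃* Matrix.ProjectiveSpecialLinearGroup (Fin 2) F)) ∨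
      Nonempty (X ⧸ Cfsg.oddCore X ≃* alternatingGroup (Fin 7))

/-- The characterisation of `PSU₃(4)` by its Sylow `2`-subgroup, as used here. -/
def UnitaryFour : Prop :=
  ∀ (X : Type u) [Group X] [Finite X] [IsSimpleGroup X] (F : Type) [Field F] [Fintype F],
    Fintype.card F = 16 → ∀ (S : Sylow 2 X) (P : Sylow 2 (Cfsg.PSU 3 F 4)),
    Nonempty ((S : Subgroup X) ≃* (P : Subgroup (Cfsg.PSU 3 F 4))) →
    Nonempty (X ≃* Cfsg.PSU 3 F 4)

theorem Hyp.congr {P : Type*} [Group P] [Finite P] (h : Hyp π G) (e : G ≃* P) : Hyp π P := by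
  refine h.of_lift e.toMonoidHom fun H' hH' => ⟨H'.comap e.toMonoidHom, ?_, ?_, ?_⟩
  · rwa [show Nat.card (H'.comap e.toMonoidHom) = Nat.card H' from
      Nat.card_congr (e.toEquiv.subtypeEquiv fun x => Iff.rfl)]
  · exact map_comap_eq_self_of_surjective e.surjective H'
  · intro x hx
    obtain ⟨g, rfl⟩ := e.surjective x
    refine ⟨g, ?_, rfl⟩
    rw [← comap_normalizer_eq_of_surjective (f := e.toMonoidHom) H' e.surjective]
    exact hx

/-- In two-rank two there are at most three involutions in `S`, all central. -/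
theorem mem_three (h : Setting π G) {S : Sylow 2 G} {a b : G} (ha : Cen S a) (hb : Cen S b)
    (hab : a ≠ b) {u : G} (huS : u ∈ (S : Subgroup G)) (hu : orderOf u = 2) :
    u = a ∨ u = b ∨ u = a * b := by
  classical
  by_contra hne
  push Not at hne
  obtain ⟨hua, hub, huab⟩ := hne
  set A := closure ({a, b, u} : Set G) with hA
  have ha2 : a ^ 2 = 1 := by rw [← ha.ord]; exact pow_orderOf_eq_one _
  have hb2 : b ^ 2 = 1 := by rw [← hb.ord]; exact pow_orderOf_eq_one _
  have hu2 : u ^ 2 = 1 := by rw [← hu]; exact pow_orderOf_eq_one _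
  have hAc : IsMulCommutative A := by
    refine Subgroup.isMulCommutative_closure fun x hx y hy => ?_
    rcases hx with rfl | rfl | rfl <;> rcases hy with rfl | rfl | rfl
    · rfl
    · exact (hb.comm _ ha.mem).eq
    · exact (ha.comm _ huS).eq.symm
    · exact (ha.comm _ hb.mem).eq
    · rfl
    · exact (hb.comm _ huS).eq.symm
    · exact (ha.comm _ huS).eq
    · exact (hb.comm _ huS).eq
    · rfl
  have hexp : ∀ x ∈ A, x ^ 2 = 1 := by
    intro x hx
    induction hx using closure_induction with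
    | mem y hy => rcases hy with rfl | rfl | rfl <;> assumption
    | one => simp
    | mul x y hx hy hx2 hy2 =>
        have : Commute x y := congrArg Subtype.val (hAc.is_comm.comm ⟨x, hx⟩ ⟨y, hy⟩)
        rw [this.mul_pow, hx2, hy2, one_mul]
    | inv x _ hx2 => rw [inv_pow, hx2, inv_one]
  have h4 := rank_le_two h A hAc hexp
  have haA : a ∈ A := subset_closure (Set.mem_insert _ _)
  have hbA : b ∈ A := subset_closure (Set.mem_insert_of_mem _ (Set.mem_insert _ _))
  have huA : u ∈ A := subset_closure (Set.mem_insert_of_mem _ (Set.mem_insert_of_mem _ rfl))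
  have habne : a * b ≠ 1 := fun e => hab (by
    calc a = a * (b * b) := by rw [← sq, hb2, mul_one]
      _ = a * b * b := (mul_assoc _ _ _).symm
      _ = b := by rw [e, one_mul])
  have hu1 : u ≠ 1 := fun e => by rw [e, orderOf_one] at hu; omega
  have hnd : [1, a, b, a * b, u].Nodup := by
    simp [habne, Ne.symm habne, hab, Ne.symm hu1, Ne.symm hua, Ne.symm hub, Ne.symm huab,
      ha.ne_one, hb.ne_one, Ne.symm ha.ne_one, Ne.symm hb.ne_one]
  have hsub : (([1, a, b, a * b, u].toFinset : Finset G) : Set G) ⊆ (A : Set G) := by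
    intro x hx
    simp only [List.coe_toFinset, List.mem_cons, List.not_mem_nil, or_false, Set.mem_ofPred_eq] at hx
    rcases hx with rfl | rfl | rfl | rfl | rfl
    exacts [one_mem A, haA, hbA, mul_mem haA hbA, huA]
  have := Set.ncard_le_ncard hsub (Set.toFinite _)
  rw [Set.ncard_coe_finset, List.toFinset_card_of_nodup hnd, ← Nat.card_coe_set_eq] at this
  simp only [List.length_cons, List.length_nil, SetLike.coe_sort_coe] at this
  omega

theorem cen_of_involution (h : Setting π G) {S : Sylow 2 G} {u : G}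
    (huS : u ∈ (S : Subgroup G)) (hu : orderOf u = 2) : Cen S u := by
  obtain ⟨a, b, ha, hb, hab⟩ := exists_two_cen h S
  rcases mem_three h ha hb hab huS hu with rfl | rfl | rfl
  · exact ha
  · exact hb
  · exact ⟨huS, hu, fun s hs => (ha.comm s hs).mul_right (hb.comm s hs)⟩

/-- `3 ∈ π`, from the action of `N(S)` on the three involutions of `S`. -/
theorem three_mem (h : Setting π G) (S : Sylow 2 G) : 3 ∈ π := by
  haveI : Fact (Nat.Prime 2) := ⟨Nat.prime_two⟩
  haveI := h.simple
  by_contra h3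
  obtain ⟨a, b₀, ha, -, -⟩ := exists_two_cen h S
  obtain ⟨n, hn, hna⟩ : ∃ n ∈ normalizer ((S : Subgroup G) : Set G), n * a * n⁻¹ ≠ a := by
    by_contra hcon
    push Not at hcon
    refine S0516.not_weakly_closed h.noncomm S a ha.ord ha.mem fun g hg => ?_
    obtain ⟨m, hm, hmx⟩ := fusion h S (zpowers a) (zpowers_le.mpr ha.mem)
      (zpowers_ne_bot.mpr ha.ne_one) g (fun x hx => by
        obtain ⟨k, rfl⟩ := mem_zpowers_iff.mp hx
        rw [← conj_zpow]; exact zpow_mem hg k)
    rw [hmx a (mem_zpowers a), hcon m hm]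
  -- split `n`
  obtain ⟨y, x, hyx, hy, hx, hy', hx'⟩ := exists_parts π n
  have hxN := zpowers_le.mpr hn hx
  have hyN := zpowers_le.mpr hn hy
  have hxa : x * a * x⁻¹ = a := by
    have := h.hyp.homog (S : Subgroup G) (isPi_of_pGroup h.hyp.two S.2) x hxN hx'
    rw [mem_centralizer_iff] at this
    rw [← this a ha.mem]; group
  obtain ⟨t, w, htw, ht, hw, ht', hw'⟩ := exists_parts ({2} : Set ℕ) y
  have htN := zpowers_le.mpr hyN ht
  have hwN := zpowers_le.mpr hyN hw
  obtain ⟨k, hk⟩ : ∃ k, orderOf t = 2 ^ k :=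
    ⟨_, Nat.eq_prime_pow_of_unique_prime_dvd (orderOf_pos t).ne' fun {q} hq hqd => ht' q hq hqd⟩
  have hta : t * a * t⁻¹ = a := by
    rw [(ha.comm t (mem_sylow_of_normalizer S hk htN)).eq]; group
  have hwodd : Odd (orderOf w) := odd_of_compl (Set.mem_singleton 2) hw'
  have hw3 : (3 : ℕ).Coprime (orderOf w) := by
    rw [Nat.prime_three.coprime_iff_not_dvd]
    exact fun hd => h3 (hy' 3 Nat.prime_three (hd.trans (orderOf_dvd_of_mem_zpowers hw)))
  have hne : w * a * w⁻¹ ≠ a := fun e => hna (by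
    rw [← hyx, ← htw]
    calc t * w * x * a * (t * w * x)⁻¹ = t * (w * (x * a * x⁻¹) * w⁻¹) * t⁻¹ := by group
      _ = a := by rw [hxa, e, hta])
  have hfix : ∀ m : ℕ, m.Coprime (orderOf w) → w ^ m ∈ centralizer ({a} : Set G) → False := by
    intro m hm hmem
    refine hne ?_
    rw [mem_centralizer_singleton_iff.mp (mem_of_pow_mem hm hmem)]; group
  set b := w * a * w⁻¹ with hb
  have hbC : Cen S b := ha.conj hwN
  set c := w * b * w⁻¹ with hc
  have hcC : Cen S c := hbC.conj hwN
  set d := w * c * w⁻¹ with hd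
  have hdC : Cen S d := hcC.conj hwN
  have inj : ∀ p q : G, w * p * w⁻¹ = w * q * w⁻¹ → p = q := fun p q e => by simpa using e
  have hcb : c ≠ b := fun e => hne (inj b a e)
  have hca : c ≠ a := fun e => hfix 2 (Nat.coprime_two_left.mpr hwodd) (by
    rw [mem_centralizer_singleton_iff]
    calc w ^ 2 * a = c * w ^ 2 := by rw [hc, hb, sq]; group
      _ = a * w ^ 2 := by rw [e])
  have hc3 : c = a * b := by
    rcases mem_three h ha hbC (Ne.symm hne) hcC.mem hcC.ord with e | e | e
    · exact absurd e hca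
    · exact absurd e hcb
    · exact e
  have hda : d = a := by
    rcases mem_three h ha hbC (Ne.symm hne) hdC.mem hdC.ord with e | e | e
    · exact e
    · exact absurd (inj c a e) hca
    · exact absurd (inj c b (e.trans hc3.symm)) hcb
  refine hfix 3 hw3 ?_
  rw [mem_centralizer_singleton_iff]
  calc w ^ 3 * a = d * w ^ 3 := by rw [hd, hc, hb, pow_succ, sq]; group
    _ = a * w ^ 3 := by rw [hda]

theorem not_quasiDihedral (h : Setting π G) (S : Sylow 2 G) :
    ¬ Cfsg.IsQuasiDihedral (S : Subgroup G) := by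
  rintro ⟨n, hn, -, x, y, hx, hy, he⟩
  have hc := (cen_of_involution h (S := S) y.2 (by rw [Subgroup.orderOf_coe, hy])).comm x x.2
  have h1 : y * x * y⁻¹ = x := by
    apply Subtype.ext
    simp only [Subgroup.coe_mul, Subgroup.coe_inv]
    rw [← hc.eq]; group
  rw [h1] at he
  have h2 : x ^ (2 ^ (n - 1) - 1) = x ^ 1 := by rw [pow_one, ← he]
  rw [pow_inj_mod, hx] at h2
  have h4 : 4 ≤ 2 ^ (n - 1) :=
    le_trans (by norm_num) (Nat.pow_le_pow_right (by norm_num) (show 2 ≤ n - 1 by omega))
  have h5 : 2 ^ n = 2 * 2 ^ (n - 1) := by rw [← pow_succ']; congr 1; omega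
  rw [Nat.mod_eq_of_lt (by omega), Nat.mod_eq_of_lt (by omega)] at h2
  omega

theorem not_wreathed (h : Setting π G) (S : Sylow 2 G) : ¬ Cfsg.IsWreathed (S : Subgroup G) := by
  rintro ⟨n, hn, -, x, y, z, hx, -, hxy, hz, he⟩
  have hc := (cen_of_involution h (S := S) z.2 (by rw [Subgroup.orderOf_coe, hz])).comm x x.2
  have h1 : z * x * z⁻¹ = x := by
    apply Subtype.ext
    simp only [Subgroup.coe_mul, Subgroup.coe_inv]
    rw [← hc.eq]; group
  rw [h1] at he
  rw [← he, inf_idem, zpowers_eq_bot] at hxy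
  rw [hxy, orderOf_one] at hx
  have := Nat.pow_le_pow_right (show 0 < 2 by norm_num) hn
  omega

theorem dihedral_two (h : Setting π G) (S : Sylow 2 G) {n : ℕ} (hn : 2 ≤ n)
    (e : (S : Subgroup G) ≃* DihedralGroup n) : n = 2 := by
  by_contra hne
  have hs : orderOf (e.symm (DihedralGroup.sr 0)) = 2 := by
    rw [MulEquiv.orderOf_eq, DihedralGroup.orderOf_sr]
  have hc := (cen_of_involution h (S := S) (e.symm (DihedralGroup.sr 0)).2
    (by rw [Subgroup.orderOf_coe, hs])).comm _ (e.symm (DihedralGroup.r 1)).2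
  have h1 : e.symm (DihedralGroup.r 1) * e.symm (DihedralGroup.sr 0) =
      e.symm (DihedralGroup.sr 0) * e.symm (DihedralGroup.r 1) := Subtype.ext hc.eq
  rw [← map_mul, ← map_mul, e.symm.injective.eq_iff] at h1
  simp only [DihedralGroup.r_mul_sr, DihedralGroup.sr_mul_r, DihedralGroup.sr.injEq] at h1
  have h2 : ((2 : ℕ) : ZMod n) = 0 := by push_cast; linear_combination -h1
  rw [ZMod.natCast_eq_zero_iff] at h2
  have := Nat.le_of_dvd (by norm_num) h2
  omega

theorem nine_not_dvd_card {F : Type} [Field F] [Fintype F] (hF : Fintype.card F = 16) :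
    3 ∣ Nat.card (Cfsg.PSU 3 F 4) ∧ ¬ 9 ∣ Nat.card (Cfsg.PSU 3 F 4) ∧
      Nat.card (Cfsg.PSU 3 F 4) ≠ 3 := by
  have hF2 : Fintype.card F = 4 ^ 2 := hF
  have h1 := Unitary.card_PSU hF2 (n := 3) (by norm_num)
  have h2 := Unitary.card_GU_eq_mul_card_SU hF2 (n := 3) (by norm_num)
  rw [Unitary.card_GU hF2] at h2
  simp [Finset.prod_range_succ, Unitary.guFactor, Nat.even_iff] at h2
  have hg : Nat.gcd 3 (4 + 1) = 1 := by decide
  rw [hg, one_mul] at h1
  omega

/-- The minimal counterexample does not exist, given the two recognition theorems. -/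
theorem no_setting (gw : GWKlein.{u}) (u34 : UnitaryFour.{u}) (h : Setting π G) : False := by
  haveI : Fact (Nat.Prime 2) := ⟨Nat.prime_two⟩
  haveI := h.simple
  obtain ⟨S⟩ : Nonempty (Sylow 2 G) := inferInstance
  have h3 := three_mem h S
  let F := GaloisField 2 4
  haveI : Fintype F := Fintype.ofFinite F
  have hF : Fintype.card F = 16 := by
    rw [← Nat.card_eq_fintype_card, GaloisField.card 2 4 (by norm_num)]; norm_num
  obtain ⟨P⟩ : Nonempty (Sylow 2 (Cfsg.PSU 3 F 4)) := inferInstance
  rcases S0516.result h.noncomm (rank_le_two h) S hF P with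
    ⟨n, hn, ⟨e⟩⟩ | hq | hw | hu
  · obtain rfl := dihedral_two h S hn e
    haveI : Group.IsPerfect G := ⟨(IsSimpleGroup.eq_bot_or_eq_top_of_normal (commutator G)
      inferInstance).resolve_left fun hb => h.noncomm ⟨⟨fun x y => by
        have : ⁅x, y⁆ ∈ commutator G := commutator_mem_commutator (mem_top x) (mem_top y)
        rw [hb, mem_bot, commutatorElement_eq_one_iff_mul_comm] at this
        exact this⟩⟩⟩
    have hO : Cfsg.oddCore G = ⊥ := by
      refine ((eq_top_or_bot h (inferInstance : (Cfsg.oddCore G).Normal))).resolve_right fun ht => ?_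
      have := Cores.odd_card_oddCore (G := G)
      rw [ht, Subgroup.card_top] at this
      exact Nat.not_odd_iff_even.mpr (even_card h) this
    let q : G ≃* G ⧸ Cfsg.oddCore G :=
      ((QuotientGroup.quotientMulEquivOfEq hO).trans QuotientGroup.quotientBot).symm
    rcases gw G S ⟨e⟩ with ⟨F', i1, i2, ho, hlt, ⟨g⟩⟩ | ⟨⟨g⟩⟩
    · exact false_of_psl ho hlt (h.hyp.congr (q.trans g)) h3
    · exact false_of_alternating_seven (h.hyp.congr (q.trans g)) h3
  · exact not_quasiDihedral h S hq
  · exact not_wreathed h S hw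
  · obtain ⟨g⟩ := u34 G F hF S P hu
    haveI : Finite (Cfsg.PSU 3 F 4) := Finite.of_equiv G g.toEquiv
    haveI : IsSimpleGroup (Cfsg.PSU 3 F 4) := g.isSimpleGroup_congr.mp h.simple
    obtain ⟨a, b, c⟩ := nine_not_dvd_card hF
    exact false_of_three_once (h.hyp.congr g) h3 a b c

end Cfsg.Agent.H63.TwoClosed
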