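import Cfsg.Agent.H63.TwoClosed.Basic

/-!
# Reduction of S3258 to a simple minimal counterexample
-/

set_option autoImplicit false
set_option linter.style.haveILetI false

namespace Cfsg.Agent.H63.TwoClosed

open Subgroup
open Cfsg.Agent.Hall

universe u

variable {G : Type*} [Group G] {π : Set ℕ}

/-- The minimal counterexample. -/
structure Setting (π : Set ℕ) (G : Type*) [Group G] : Prop where
  hyp : Hyp π G
  proper : ∀ M : Subgroup G, M ≠ ⊤ → Closed π M
  simple : IsSimpleGroup G
  noncomm : ¬ IsMulCommutative G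

theorem closed_of_comm [Finite G] (h : IsMulCommutative G) : Closed π G := by
  refine ⟨{ carrier := {x | PPrime π x}
            one_mem' := pprime_one
            mul_mem' := ?_
            inv_mem' := ?_ }, fun x => Iff.rfl⟩
  · intro a b ha hb
    exact IsPiNumber.of_dvd (IsPiNumber.mul ha hb)
      (Commute.orderOf_mul_dvd_mul_orderOf (h.is_comm.comm a b))
  · intro a ha
    show PPrime π a⁻¹
    unfold PPrime
    rwa [orderOf_inv]

/-- The `π'`-subgroup of a closed subgroup, inside `G`. -/
theorem exists_kSub [Finite G] {M : Subgroup G} (h : Closed π M) :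
    ∃ K : Subgroup G, (∀ x, x ∈ K ↔ x ∈ M ∧ PPrime π x) ∧ IsPiNumber πᶜ (Nat.card K) := by
  obtain ⟨K, hK⟩ := h
  have hm : ∀ x, x ∈ K.map M.subtype ↔ x ∈ M ∧ PPrime π x := by
    intro x
    constructor
    · rintro ⟨y, hy, rfl⟩
      exact ⟨y.2, pprime_coe.mpr ((hK y).mp hy)⟩
    · rintro ⟨hxM, hx⟩
      exact ⟨⟨x, hxM⟩, (hK _).mpr (pprime_coe.mp hx), rfl⟩
  exact ⟨_, hm, isPi_card_of_forall fun x hx => ((hm x).mp hx).2⟩

/-- A closed quotient by a normal `π'`-subgroup gives a closed group. -/
theorem closed_of_quotient_compl [Finite G] (N : Subgroup G) [N.Normal]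
    (hN : IsPiNumber πᶜ (Nat.card N)) (h : Closed π (G ⧸ N)) : Closed π G := by
  obtain ⟨K, hK⟩ := h
  refine ⟨K.comap (QuotientGroup.mk' N), fun x => ⟨fun hx => ?_, fun hx => ?_⟩⟩
  · have hd : orderOf x ∣ orderOf (QuotientGroup.mk' N x) * Nat.card N := by
      refine orderOf_dvd_of_pow_eq_one ?_
      have hm : x ^ orderOf (QuotientGroup.mk' N x) ∈ N := by
        rw [← QuotientGroup.eq_one_iff, ← QuotientGroup.mk'_apply, map_pow,
          pow_orderOf_eq_one]
      rw [pow_mul]
      exact orderOf_dvd_iff_pow_eq_one.mp (orderOf_dvd_natCard N hm)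
    exact IsPiNumber.of_dvd (IsPiNumber.mul ((hK _).mp hx) hN) hd
  · exact (hK _).mpr (hx.map _)

/-- A closed quotient by a central `π`-subgroup gives a closed group. -/
theorem closed_of_quotient_central [Finite G] (N : Subgroup G) [N.Normal]
    (hcen : N ≤ center G) (hN : IsPiNumber π (Nat.card N)) (h : Closed π (G ⧸ N)) :
    Closed π G := by
  obtain ⟨K, hK⟩ := h
  set L := K.comap (QuotientGroup.mk' N) with hL
  have hNL : N ≤ L := fun x hx => by
    rw [hL, mem_comap, QuotientGroup.mk'_apply, (QuotientGroup.eq_one_iff x).mpr hx]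
    exact K.one_mem
  have hidx : (N.subgroupOf L).index = Nat.card K := by
    show N.relIndex L = _
    conv_rhs => rw [← map_comap_eq_self_of_surjective (QuotientGroup.mk'_surjective N) K]
    rw [← Subgroup.relIndex_ker, QuotientGroup.ker_mk']
  have hKc : IsPiNumber πᶜ (Nat.card K) := isPi_card_of_forall fun y hy => (hK y).mp hy
  have hcop : (Nat.card (N.subgroupOf L)).Coprime (N.subgroupOf L).index := by
    rw [hidx, card_subgroupOf_of_le hNL]
    exact hN.coprime hKc
  obtain ⟨C, hC⟩ := exists_right_complement'_of_coprime hcop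
  have hcard : Nat.card C = Nat.card K := by rw [← hidx, hC.symm.index_eq_card]
  refine ⟨C.map L.subtype, fun x => ⟨fun hx => ?_, fun hx => ?_⟩⟩
  · refine pprime_of_card ?_ hx
    rwa [card_map_of_injective L.subtype_injective, hcard]
  · have hxL : x ∈ L := mem_comap.mpr ((hK _).mpr (hx.map _))
    obtain ⟨⟨a, c⟩, hac⟩ := hC.2 ⟨x, hxL⟩
    have ha : ((a : L) : G) ∈ N := a.2
    have hxe : ((a : L) : G) * ((c : L) : G) = x := congrArg Subtype.val hac
    have hcom : Commute ((a : L) : G) ((c : L) : G) :=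
      ((mem_center_iff.mp (hcen ha)) _).symm
    have hp : x ^ Nat.card N = ((c : L) : G) ^ Nat.card N := by
      rw [← hxe, hcom.mul_pow, orderOf_dvd_iff_pow_eq_one.mp (orderOf_dvd_natCard N ha), one_mul]
    refine mem_of_pow_mem (n := Nat.card N) (hN.coprime hx) ?_
    rw [hp]
    exact pow_mem (mem_map_of_mem L.subtype c.2) _

/-- If no minimal counterexample exists then every group with the hypothesis is closed. -/
theorem closed_of_no_setting {π : Set ℕ}
    (hno : ∀ (G : Type u) [Group G] [Finite G], Setting π G → False) :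
    ∀ (G : Type u) [Group G] [Finite G], Hyp π G → Closed π G := by
  suffices H : ∀ (n : ℕ) (G : Type u) [Group G] [Finite G], Nat.card G = n → Hyp π G → Closed π G by
    intro G _ _ h
    exact H _ G rfl h
  intro n
  induction n using Nat.strong_induction_on with
  | _ n ih =>
  intro G _ _ hn h
  by_cases hcomm : IsMulCommutative G
  · exact closed_of_comm hcomm
  have hsub : ∀ M : Subgroup G, M ≠ ⊤ → Closed π M := fun M hM => by
    refine ih _ ?_ M rfl (h.subgroup M)
    rw [← hn, ← M.card_mul_index]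
    exact lt_mul_of_one_lt_right Nat.card_pos (one_lt_index_of_ne_top hM)
  have hquot : ∀ (N : Subgroup G) [N.Normal], N ≠ ⊥ → Hyp π (G ⧸ N) → Closed π (G ⧸ N) :=
    fun N _ hN hq => by
      refine ih _ ?_ (G ⧸ N) rfl hq
      rw [← hn, Subgroup.card_eq_card_quotient_mul_card_subgroup N]
      exact lt_mul_of_one_lt_right Nat.card_pos (N.one_lt_card_iff_ne_bot.mpr hN)
  by_contra hne
  have hsimple : ∀ N : Subgroup G, N.Normal → N = ⊥ ∨ N = ⊤ := by
    intro N hNn
    by_contra hcon
    push Not at hcon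
    obtain ⟨hb, ht⟩ := hcon
    obtain ⟨K, hK, hKc⟩ := exists_kSub (hsub N ht)
    haveI : K.Normal := ⟨fun x hx g => by
      rw [hK] at hx ⊢
      exact ⟨hNn.conj_mem x hx.1 g, hx.2.conj g⟩⟩
    by_cases hK0 : K = ⊥
    · haveI := hNn
      have hNpi : IsPiNumber π (Nat.card N) := by
        refine isPi_card_of_forall fun x hx => ?_
        obtain ⟨y, z, hyz, hy, hz, hy', hz'⟩ := exists_parts π x
        have hz1 : z = 1 := by
          have : z ∈ K := (hK z).mpr ⟨zpowers_le.mpr hx hz, hz'⟩
          simpa [hK0] using this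
        rw [← hyz, hz1, mul_one]
        exact hy'
      by_cases hC : centralizer (N : Set G) = ⊤
      · exact hne (closed_of_quotient_central N (centralizer_eq_top_iff_subset.mp hC) hNpi
          (hquot N hb (h.quotient_central N hNpi)))
      · obtain ⟨L, hL, -⟩ := exists_kSub (hsub _ hC)
        refine hne ⟨L, fun x => ⟨fun hx => ((hL x).mp hx).2, fun hx => (hL x).mpr ⟨?_, hx⟩⟩⟩
        exact h.homog N hNpi x (by rw [normalizer_eq_top]; exact mem_top x) hx
    · exact hne (closed_of_quotient_compl K hKc (hquot K hK0 (h.quotient_compl K hKc)))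
  haveI : Nontrivial G := by
    by_contra hnt
    rw [not_nontrivial_iff_subsingleton] at hnt
    exact hcomm ⟨⟨fun a b => Subsingleton.elim _ _⟩⟩
  exact hno G ⟨h, hsub, ⟨hsimple⟩, hcomm⟩

end Cfsg.Agent.H63.TwoClosed
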