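import Cfsg.Agent.H63.TwoClosed.Embedded
import Cfsg.Agent.S0217

/-!
# A minimal counterexample has `2`-rank at most two

The balanced functor `a ↦ K(C(a))` is complete, so the subgroup generated by the `K(C(z))`, `z` a
central involution of `S`, has odd order and its normaliser is strongly embedded.
-/

set_option autoImplicit false
set_option linter.style.haveILetI false

namespace Cfsg.Agent.H63.TwoClosed

open Subgroup
open Cfsg.Agent.Hall

universe u

variable {G : Type u} [Group G] [Finite G] {π : Set ℕ}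

theorem kSub_conj (h : Setting π G) {z n x : G} (hz : z ≠ 1)
    (hx : x ∈ kSub π (centralizer ({z} : Set G))) :
    n * x * n⁻¹ ∈ kSub π (centralizer ({n * z * n⁻¹} : Set G)) := by
  have hz' : n * z * n⁻¹ ≠ 1 := fun e => hz (by
    calc z = n⁻¹ * (n * z * n⁻¹) * n := by group
      _ = 1 := by rw [e]; group)
  rw [mem_kSub h (centralizer_ne_top h hz)] at hx
  rw [mem_kSub h (centralizer_ne_top h hz')]
  refine ⟨mem_centralizer_singleton_iff.mpr ?_, hx.2.conj n⟩
  have e := mem_centralizer_singleton_iff.mp hx.1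
  calc n * x * n⁻¹ * (n * z * n⁻¹) = n * (x * z) * n⁻¹ := by group
    _ = n * (z * x) * n⁻¹ := by rw [e]
    _ = _ := by group

/-- If the subgroup generated by the `K(C(z))` has odd order there is a contradiction. -/
theorem false_of_odd_sup (h : Setting π G) (S : Sylow 2 G)
    (hodd : Odd (Nat.card (⨆ z : {z : G // Cen S z},
      kSub π (centralizer ({(z : G)} : Set G)) : Subgroup G))) : False := by
  set W : Subgroup G := ⨆ z : {z : G // Cen S z}, kSub π (centralizer ({(z : G)} : Set G)) with hW
  have hWtop : W ≠ ⊤ := fun e => by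
    rw [e, Subgroup.card_top] at hodd
    exact Nat.not_odd_iff_even.mpr (even_card h) hodd
  have hWle : ∀ {z : G}, Cen S z → kSub π (centralizer ({z} : Set G)) ≤ W := fun {z} hz =>
    le_iSup (fun z : {z : G // Cen S z} => kSub π (centralizer ({(z : G)} : Set G))) ⟨z, hz⟩
  by_cases hW0 : W = ⊥
  · refine false_of_proper h (S := S)
      (normalizer_ne_top h (sylow_ne_bot h S) (pGroup_ne_top h S.2)) le_rfl fun z hz x hx => ?_
    obtain ⟨k, hk, hkx⟩ := cen_decomp h hz hx
    have hk1 : k = 1 := by simpa [hW0] using hWle hz hk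
    simpa [hk1] using hkx
  · have hN : normalizer ((S : Subgroup G) : Set G) ≤ normalizer (W : Set G) := by
      refine le_normalizer_iff.mpr fun n hn w hw => ?_
      rw [hW] at hw
      induction hw using iSup_induction' with
      | hp z x hx => exact hWle (z.2.conj hn) (kSub_conj h z.2.ne_one hx)
      | h1 => simp [one_mem]
      | hmul x y _ _ hx hy =>
          rw [show n * (x * y) * n⁻¹ = (n * x * n⁻¹) * (n * y * n⁻¹) by group]
          exact mul_mem hx hy
    refine false_of_proper h (S := S) (normalizer_ne_top h hW0 hWtop) hN fun z hz x hx => ?_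
    obtain ⟨k, hk, hkx⟩ := cen_decomp h hz hx
    simpa using mul_mem (le_normalizer (hWle hz hk)) (hN hkx)

/-- A minimal counterexample has `2`-rank at most two. -/
theorem rank_le_two (h : Setting π G) : Cfsg.PRankLE 2 2 G := by
  intro A0 hA0c hA0e
  by_contra hlt
  push Not at hlt
  haveI : Fact (Nat.Prime 2) := ⟨Nat.prime_two⟩
  have hA0p : IsPGroup 2 A0 := fun x => ⟨1, Subtype.ext (by simpa using hA0e x x.2)⟩
  obtain ⟨S, hS⟩ := hA0p.exists_le_sylow
  set X : Set G := (A0 : Set G) ∪ {z | Cen S z} with hX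
  set A := closure X with hA
  have hXS : X ⊆ (S : Subgroup G) := Set.union_subset hS fun z hz => hz.mem
  have hAc : IsMulCommutative A := by
    refine Subgroup.isMulCommutative_closure fun a ha b hb => ?_
    rcases hb with hb | hb
    · rcases ha with ha | ha
      · exact congrArg Subtype.val (hA0c.is_comm.comm ⟨a, ha⟩ ⟨b, hb⟩)
      · exact (ha.comm b (hS hb)).eq.symm
    · exact (hb.comm a (hXS ha)).eq
  have hcomm : ∀ a ∈ A, ∀ b ∈ A, a * b = b * a := fun a ha b hb =>
    congrArg Subtype.val (hAc.is_comm.comm ⟨a, ha⟩ ⟨b, hb⟩)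
  have hexp : ∀ a ∈ A, a ^ 2 = 1 := by
    intro a ha
    induction ha using closure_induction with
    | mem y hy =>
        rcases hy with hy | hy
        · exact hA0e y hy
        · rw [← hy.ord]; exact pow_orderOf_eq_one _
    | one => simp
    | mul x y hx hy hx2 hy2 =>
        rw [(show Commute x y from hcomm x hx y hy).mul_pow, hx2, hy2, one_mul]
    | inv x _ hx2 => rw [inv_pow, hx2, inv_one]
  have hrank : 2 ^ 3 ≤ Nat.card A := by
    obtain ⟨k, hk⟩ := IsPGroup.iff_card.mp hA0p
    have h3 : 3 ≤ k := by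
      by_contra hc
      have := Nat.pow_le_pow_right (show 0 < 2 by norm_num) (show k ≤ 2 by omega)
      omega
    calc 2 ^ 3 ≤ 2 ^ k := Nat.pow_le_pow_right (by norm_num) h3
      _ = Nat.card A0 := hk.symm
      _ ≤ Nat.card A := Subgroup.card_le_of_le fun a ha => subset_closure (Or.inl ha)
  have hne : ∀ a : G, a ≠ 1 → centralizer ({a} : Set G) ≠ ⊤ := fun a ha => centralizer_ne_top h ha
  obtain ⟨hW', -⟩ := S0217.result A hcomm hexp hrank
    (fun a => kSub π (centralizer ({a} : Set G)))
    (fun a _ _ => kSub_le π _)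
    (fun a _ h1 hd => card_kSub h (hne a h1) 2 Nat.prime_two hd h.hyp.two)
    (fun a ha h1 b hb x hx => by
      refine (mem_normalizer_iff.mp (normalizer_le_normalizer_kSub h (hne a h1)
        (le_normalizer ?_)) x).mp hx
      exact mem_centralizer_singleton_iff.mpr (hcomm b hb a ha))
    (fun a _ h1 => S0205.result (odd_kSub h (hne a h1)))
    (fun a _ h1 b _ hb1 x hx => by
      rw [mem_inf, mem_kSub h (hne a h1)] at hx
      exact (mem_kSub h (hne b hb1)).mpr ⟨hx.2, hx.1.2⟩)
  refine false_of_odd_sup h S ?_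
  have hle : (⨆ z : {z : G // Cen S z}, kSub π (centralizer ({(z : G)} : Set G))) ≤
      ⨆ a : {a : G // a ∈ A ∧ a ≠ 1}, kSub π (centralizer ({(a : G)} : Set G)) :=
    iSup_le fun z => le_iSup
      (fun a : {a : G // a ∈ A ∧ a ≠ 1} => kSub π (centralizer ({(a : G)} : Set G)))
      ⟨z.1, subset_closure (Or.inr z.2), z.2.ne_one⟩
  rw [Nat.odd_iff, ← Nat.two_dvd_ne_zero]
  exact fun hd => hW' (hd.trans (card_dvd_of_le hle))

end Cfsg.Agent.H63.TwoClosed
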